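import Mathlib
import Cfsg.Agent.Lib.Helper22.HPDefs
import Cfsg.Agent.Lib.Helper83.IrrBasic
import Cfsg.Agent.Lib.Helper83.Central
import Cfsg.Agent.Lib.Helper83.Twist
import Cfsg.Agent.Lib.Helper82.CharCore
import Cfsg.Agent.Lib.Helper67.BFZCENT
import Cfsg.Agent.Lib.Helper35.BFFIXB
import Cfsg.Agent.Lib.Helper87.HPPSING
import Cfsg.Agent.Lib.Helper83.HPKFZ
import Cfsg.Agent.Lib.Helper31.HPETA
import Cfsg.Agent.Lib.Helper31.HPETA4

/-!
# S4504 (helper22's HP project): piece HP-MOMENT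

The second and fourth moments of `χ`: `G` is the disjoint union of the centre, the `p`-singular
elements and the non-central `p`-regular elements; the sums over the first two parts are computed
exactly (fusion of the `p`-singular elements), the third part is controlled by `|χ| ≤ 1`.
-/

set_option autoImplicit false
set_option linter.style.haveILetI false
set_option linter.unusedVariables false

namespace Cfsg.Agent.Lib.Helper31.HPT

open Cfsg Cfsg.Agent.Lib.Helper22.BFD Cfsg.Agent.Lib.Helper22.HPD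
open scoped ComplexConjugate

universe u

section grp

variable {G : Type u} [Group G] [Fintype G]

/-- powers of `z` indexed by `ZMod p` -/
theorem moment_pow_mul (p : ℕ) [Fact p.Prime] (z : G) (hz : orderOf z = p) (a b : ZMod p) :
    z ^ (a * b).val = (z ^ a.val) ^ b.val := by
  rw [← pow_mul, pow_eq_pow_iff_modEq, hz, ZMod.val_mul]
  exact Nat.mod_modEq _ _

theorem moment_pow_inj (p : ℕ) [Fact p.Prime] (z : G) (hz : orderOf z = p) (a b : ZMod p)
    (h : z ^ a.val = z ^ b.val) : a = b := by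
  rw [pow_eq_pow_iff_modEq, hz] at h
  apply ZMod.val_injective p
  exact Nat.ModEq.eq_of_lt_of_lt h (ZMod.val_lt a) (ZMod.val_lt b)

/-- an element commuting with a nontrivial power of `z` commutes with `z` -/
theorem moment_comm_pow (p : ℕ) [Fact p.Prime] (z : G) (hz : orderOf z = p) (t : ZMod p)
    (ht : t ≠ 0) (a : G) (h : a * z ^ t.val = z ^ t.val * a) : a * z = z * a := by
  have h1 : z = (z ^ t.val) ^ (t⁻¹).val := by
    rw [← moment_pow_mul p z hz, mul_inv_cancel₀ ht, ZMod.val_one, pow_one]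
  have h2 : Commute a (z ^ t.val) := h
  have h3 : Commute a ((z ^ t.val) ^ (t⁻¹).val) := h2.pow_right (t⁻¹).val
  rw [← h1] at h3
  exact h3

/-- an element of order `p` commuting with `z` is a power of `z` -/
theorem moment_ord_p (p : ℕ) [Fact p.Prime]
    (hnn : ∀ H : Subgroup G, H.Normal → Nat.card H ≠ p) (χ : G → ℂ) (z : G) (ζ : ℂ)
    (hHP : HP p ζ z χ) (a : G) (hc : a * z = z * a) (ha : orderOf a = p) :
    ∃ k : ZMod p, a = z ^ k.val := by
  have hp : p.Prime := Fact.out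
  obtain ⟨t, u, hu, rfl⟩ := hHP.hC a hc
  refine ⟨t, ?_⟩
  have hcomm : Commute (z ^ t.val) u := Subgroup.mem_center_iff.mp hu (z ^ t.val)
  have h1 : (z ^ t.val * u) ^ p = 1 := by
    have := pow_orderOf_eq_one (z ^ t.val * u)
    rwa [ha] at this
  have hzp : z ^ p = 1 := by
    have := pow_orderOf_eq_one z
    rwa [hHP.hz] at this
  rw [hcomm.mul_pow, ← pow_mul, mul_comm t.val p, pow_mul, hzp, one_pow, one_mul] at h1
  have h2 : orderOf u ∣ p := orderOf_dvd_of_pow_eq_one h1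
  rcases (Nat.dvd_prime hp).mp h2 with h3 | h3
  · rw [orderOf_eq_one_iff.mp h3, mul_one]
  · exact (Cfsg.Agent.Lib.Helper83.HPT.kfz_no_central p hnn u hu h3).elim

/-- central elements are `p`-regular -/
theorem moment_center_reg (p : ℕ) [Fact p.Prime]
    (hnn : ∀ H : Subgroup G, H.Normal → Nat.card H ≠ p) (u : G)
    (hu : u ∈ Subgroup.center G) : ¬ p ∣ orderOf u := by
  intro hdvd
  have h0 : orderOf u ≠ 0 := (orderOf_pos u).ne'
  have h1 : orderOf (u ^ (orderOf u / p)) = p := orderOf_pow_orderOf_div h0 hdvd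
  exact Cfsg.Agent.Lib.Helper83.HPT.kfz_no_central p hnn _
    (Subgroup.pow_mem _ hu _) h1

/-- the elements `z ^ t * u` (`t ≠ 0`, `u` central) are `p`-singular -/
theorem moment_sing_of (p : ℕ) [Fact p.Prime]
    (hnn : ∀ H : Subgroup G, H.Normal → Nat.card H ≠ p) (z : G) (hz : orderOf z = p)
    (t : ZMod p) (ht : t ≠ 0) (u : G) (hu : u ∈ Subgroup.center G) :
    p ∣ orderOf (z ^ t.val * u) := by
  have hp : p.Prime := Fact.out
  have hcomm : Commute (z ^ t.val) u := Subgroup.mem_center_iff.mp hu (z ^ t.val)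
  have hco : Nat.Coprime p t.val := by
    rw [Nat.Prime.coprime_iff_not_dvd hp]
    intro hd
    have h1 : 0 < t.val := Nat.pos_of_ne_zero (fun h => ht ((ZMod.val_eq_zero t).mp h))
    exact absurd (Nat.le_of_dvd h1 hd) (not_le.mpr (ZMod.val_lt t))
  have ho : orderOf (z ^ t.val) = p := by
    rw [Nat.Coprime.orderOf_pow (by rw [hz]; exact hco), hz]
  have hreg := moment_center_reg p hnn u hu
  have hco2 : (orderOf (z ^ t.val)).Coprime (orderOf u) := by
    rw [ho]; exact (Nat.Prime.coprime_iff_not_dvd hp).mpr hreg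
  rw [hcomm.orderOf_mul_eq_mul_orderOf_of_coprime hco2, ho]
  exact dvd_mul_right _ _

open Classical in
/-- the order of the centralizer of `z` -/
theorem moment_card_cent (p : ℕ) [Fact p.Prime] (hsq : ¬ p ^ 2 ∣ Nat.card G)
    (hnn : ∀ H : Subgroup G, H.Normal → Nat.card H ≠ p) (χ : G → ℂ) (z : G) (ζ : ℂ)
    (hHP : HP p ζ z χ) :
    (Finset.univ.filter (fun v : G => v * z = z * v)).card =
      p * Nat.card (Subgroup.center G) := by
  have h := (Cfsg.Agent.Lib.Helper35.BFT.cent_sum p hsq z hHP.hz (fun _ => (1 : ℂ))).2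
  have hK : Kf p z = Finset.univ.filter (fun u : G => u ∈ Subgroup.center G) := by
    ext y
    rw [Cfsg.Agent.Lib.Helper83.HPT.hp_kfz p hnn χ z ζ hHP y]
    simp
  have hKc : (Kf p z).card = Nat.card (Subgroup.center G) := by
    rw [hK, Nat.card_eq_fintype_card, Fintype.card_subtype]
  have h1 : (Finset.univ.filter (fun v : G => v * z = z * v)) =
      Finset.univ.filter (fun g : G => g ∈ Subgroup.centralizer ({z} : Set G)) := by
    ext v
    simp only [Finset.mem_filter, Finset.mem_univ, true_and, Subgroup.mem_centralizer_iff,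
      Set.mem_singleton_iff, forall_eq]
    exact eq_comm
  rw [h1]
  rw [← Finset.sum_filter] at h
  simp only [Finset.sum_const, nsmul_eq_mul, mul_one, Finset.card_univ, ZMod.card] at h
  rw [hKc] at h
  exact_mod_cast h

open Classical in
/-- the number of `w` with `w z w⁻¹` commuting with `z` -/
theorem moment_count_z (p : ℕ) [Fact p.Prime] (hp2 : p ≠ 2) (hsq : ¬ p ^ 2 ∣ Nat.card G)
    (hnn : ∀ H : Subgroup G, H.Normal → Nat.card H ≠ p) (χ : G → ℂ) (z : G) (ζ : ℂ)
    (hHP : HP p ζ z χ) :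
    (Finset.univ.filter (fun w : G => (w * z * w⁻¹) * z = z * (w * z * w⁻¹))).card =
      p * Nat.card (Subgroup.center G) * ((p - 1) / 2) := by
  have hz := hHP.hz
  have hW : Finset.univ.filter (fun w : G => (w * z * w⁻¹) * z = z * (w * z * w⁻¹)) =
      (Sq p).biUnion (fun k => Finset.univ.filter (fun w : G => w * z * w⁻¹ = z ^ k.val)) := by
    ext w
    simp only [Finset.mem_filter, Finset.mem_univ, true_and, Finset.mem_biUnion]
    constructor
    · intro hw
      have ho : orderOf (w * z * w⁻¹) = p := by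
        have := MulEquiv.orderOf_eq (MulAut.conj w) z
        rw [MulAut.conj_apply] at this
        rw [this, hz]
      obtain ⟨k, hk⟩ := moment_ord_p p hnn χ z ζ hHP _ hw ho
      refine ⟨k, ?_, hk⟩
      rw [← hHP.hE k, isConj_iff]
      refine ⟨w⁻¹, ?_⟩
      rw [← hk]
      group
    · rintro ⟨k, -, hk⟩
      rw [hk]
      exact pow_mul_comm' z _
  rw [hW, Finset.card_biUnion]
  · have hpiece : ∀ k ∈ Sq p, (Finset.univ.filter (fun w : G => w * z * w⁻¹ = z ^ k.val)).card =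
        p * Nat.card (Subgroup.center G) := by
      intro k hk
      rw [← moment_card_cent p hsq hnn χ z ζ hHP]
      obtain ⟨c, hc⟩ := isConj_iff.mp ((hHP.hE k).mpr hk)
      have h2 : c * z ^ k.val = z * c := by
        calc c * z ^ k.val = (c * z ^ k.val * c⁻¹) * c := by group
          _ = z * c := by rw [hc]
      have h4 : c⁻¹ * z * c = z ^ k.val := by
        calc c⁻¹ * z * c = c⁻¹ * (c * z ^ k.val * c⁻¹) * c := by rw [hc]
          _ = z ^ k.val := by group
      apply Finset.card_nbij' (fun w => c * w) (fun v => c⁻¹ * v)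
      · intro w hw
        have hw' : w * z * w⁻¹ = z ^ k.val := by simpa using hw
        have h1 : w * z = z ^ k.val * w := by rw [← hw']; group
        simp only [Finset.coe_filter, Finset.mem_univ, true_and, Set.mem_ofPred_eq]
        rw [mul_assoc, h1, ← mul_assoc, h2, mul_assoc]
      · intro v hv
        have hv' : v * z = z * v := by simpa using hv
        have h3 : v * z * v⁻¹ = z := by rw [hv']; group
        simp only [Finset.coe_filter, Finset.mem_univ, true_and, Set.mem_ofPred_eq]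
        calc c⁻¹ * v * z * (c⁻¹ * v)⁻¹ = c⁻¹ * (v * z * v⁻¹) * c := by group
          _ = c⁻¹ * z * c := by rw [h3]
          _ = z ^ k.val := h4
      · intro w _
        simp
      · intro v _
        simp
    rw [Finset.sum_congr rfl hpiece, Finset.sum_const, smul_eq_mul,
      Cfsg.Agent.Lib.Helper31.HPT.eta_aux_card p hp2, mul_comm]
  · intro k hk k' hk' hne
    rw [Function.onFun, Finset.disjoint_left]
    intro w hw hw'
    simp only [Finset.mem_filter, Finset.mem_univ, true_and] at hw hw'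
    exact hne (moment_pow_inj p z hz k k' (hw.symm.trans hw'))

open Classical in
/-- the number of `x` with `x z x⁻¹` commuting with a `p`-singular element `g` -/
theorem moment_count_g (p : ℕ) [Fact p.Prime] (hp2 : p ≠ 2) (hsq : ¬ p ^ 2 ∣ Nat.card G)
    (hnn : ∀ H : Subgroup G, H.Normal → Nat.card H ≠ p) (χ : G → ℂ) (z : G) (ζ : ℂ)
    (hHP : HP p ζ z χ) (g : G) (hg : p ∣ orderOf g) :
    (Finset.univ.filter (fun x : G => (x * z * x⁻¹) * g = g * (x * z * x⁻¹))).card =
      p * Nat.card (Subgroup.center G) * ((p - 1) / 2) := by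
  have hz := hHP.hz
  rw [← moment_count_z p hp2 hsq hnn χ z ζ hHP]
  obtain ⟨t0, ht0, u0, hu0, hconj⟩ :=
    Cfsg.Agent.Lib.Helper87.HPT.hp_psing p hsq hnn χ z ζ hHP g hg
  obtain ⟨y, hy⟩ := isConj_iff.mp hconj
  apply Finset.card_nbij' (fun x => y * x) (fun w => y⁻¹ * w)
  · intro x hx
    have hx' : (x * z * x⁻¹) * g = g * (x * z * x⁻¹) := by simpa using hx
    simp only [Finset.coe_filter, Finset.mem_univ, true_and, Set.mem_ofPred_eq]
    have h1 : (y * x * z * (y * x)⁻¹) * (y * g * y⁻¹) = (y * g * y⁻¹) * (y * x * z * (y * x)⁻¹) := by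
      calc (y * x * z * (y * x)⁻¹) * (y * g * y⁻¹) = y * ((x * z * x⁻¹) * g) * y⁻¹ := by group
        _ = y * (g * (x * z * x⁻¹)) * y⁻¹ := by rw [hx']
        _ = _ := by group
    rw [hy] at h1
    have hu : u0 * (y * x * z * (y * x)⁻¹) = (y * x * z * (y * x)⁻¹) * u0 :=
      (Subgroup.mem_center_iff.mp hu0 _).symm
    have h2 : (y * x * z * (y * x)⁻¹) * z ^ t0.val = z ^ t0.val * (y * x * z * (y * x)⁻¹) := by
      apply mul_right_cancel (b := u0)
      calc (y * x * z * (y * x)⁻¹) * z ^ t0.val * u0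
          = (y * x * z * (y * x)⁻¹) * (z ^ t0.val * u0) := mul_assoc _ _ _
        _ = z ^ t0.val * u0 * (y * x * z * (y * x)⁻¹) := h1
        _ = z ^ t0.val * (u0 * (y * x * z * (y * x)⁻¹)) := mul_assoc _ _ _
        _ = z ^ t0.val * ((y * x * z * (y * x)⁻¹) * u0) := by rw [hu]
        _ = z ^ t0.val * (y * x * z * (y * x)⁻¹) * u0 := (mul_assoc _ _ _).symm
    exact moment_comm_pow p z hz t0 ht0 _ h2
  · intro w hw
    have hw' : Commute (w * z * w⁻¹) z := by
      have h0 : (w * z * w⁻¹) * z = z * (w * z * w⁻¹) := by simpa using hw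
      exact h0
    simp only [Finset.coe_filter, Finset.mem_univ, true_and, Set.mem_ofPred_eq]
    have h1 : Commute (w * z * w⁻¹) (z ^ t0.val * u0) :=
      (hw'.pow_right _).mul_right (Subgroup.mem_center_iff.mp hu0 _)
    rw [← hy] at h1
    have h2 : (w * z * w⁻¹) * (y * g * y⁻¹) = (y * g * y⁻¹) * (w * z * w⁻¹) := h1
    calc y⁻¹ * w * z * (y⁻¹ * w)⁻¹ * g = y⁻¹ * ((w * z * w⁻¹) * (y * g * y⁻¹)) * y := by group
      _ = y⁻¹ * ((y * g * y⁻¹) * (w * z * w⁻¹)) * y := by rw [h2]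
      _ = g * (y⁻¹ * w * z * (y⁻¹ * w)⁻¹) := by group
  · intro x _
    simp
  · intro w _
    simp

open Classical in
/-- the sum of a class function over the `p`-singular elements -/
theorem moment_sing_sum (p : ℕ) [Fact p.Prime] (hp2 : p ≠ 2) (hsq : ¬ p ^ 2 ∣ Nat.card G)
    (hnn : ∀ H : Subgroup G, H.Normal → Nat.card H ≠ p) (χ : G → ℂ) (z : G) (ζ : ℂ)
    (hHP : HP p ζ z χ) (F : G → ℂ) (hF : ∀ x g : G, F (x * g * x⁻¹) = F g) :
    ((p * Nat.card (Subgroup.center G) * ((p - 1) / 2) : ℕ) : ℂ) *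
        ∑ g ∈ Finset.univ.filter (fun g : G => p ∣ orderOf g), F g =
      (Nat.card G : ℂ) * ∑ t ∈ Finset.univ.filter (fun t : ZMod p => t ≠ 0),
        ∑ u ∈ Finset.univ.filter (fun u : G => u ∈ Subgroup.center G), F (z ^ t.val * u) := by
  have hz := hHP.hz
  -- the double sum
  have hT1 : ∑ x : G, ∑ g : G,
      (if ((x⁻¹ * g * x) * z = z * (x⁻¹ * g * x) ∧ p ∣ orderOf g) then F g else 0) =
      ((p * Nat.card (Subgroup.center G) * ((p - 1) / 2) : ℕ) : ℂ) *
        ∑ g ∈ Finset.univ.filter (fun g : G => p ∣ orderOf g), F g := by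
    rw [Finset.sum_comm, Finset.mul_sum, Finset.sum_filter]
    refine Finset.sum_congr rfl fun g _ => ?_
    by_cases hpg : p ∣ orderOf g
    · rw [if_pos hpg, ← moment_count_g p hp2 hsq hnn χ z ζ hHP g hpg, ← Finset.sum_filter,
        Finset.sum_const, nsmul_eq_mul]
      congr 2
      refine congrArg Finset.card (Finset.filter_congr ?_)
      intro x _
      constructor
      · rintro ⟨h, -⟩
        calc x * z * x⁻¹ * g = x * (z * (x⁻¹ * g * x)) * x⁻¹ := by group
          _ = x * ((x⁻¹ * g * x) * z) * x⁻¹ := by rw [h]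
          _ = g * (x * z * x⁻¹) := by group
      · intro h
        refine ⟨?_, hpg⟩
        calc x⁻¹ * g * x * z = x⁻¹ * (g * (x * z * x⁻¹)) * x := by group
          _ = x⁻¹ * ((x * z * x⁻¹) * g) * x := by rw [h]
          _ = z * (x⁻¹ * g * x) := by group
    · rw [if_neg hpg]
      apply Finset.sum_eq_zero
      intro x _
      rw [if_neg (fun h => hpg h.2)]
  have hT2 : ∑ x : G, ∑ g : G,
      (if ((x⁻¹ * g * x) * z = z * (x⁻¹ * g * x) ∧ p ∣ orderOf g) then F g else 0) =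
      (Nat.card G : ℂ) * ∑ d : G, (if (d * z = z * d ∧ p ∣ orderOf d) then F d else 0) := by
    have h1 : ∀ x : G, ∑ g : G,
        (if ((x⁻¹ * g * x) * z = z * (x⁻¹ * g * x) ∧ p ∣ orderOf g) then F g else 0) =
        ∑ d : G, (if (d * z = z * d ∧ p ∣ orderOf d) then F d else 0) := by
      intro x
      symm
      apply Fintype.sum_equiv (MulAut.conj x).toEquiv
      intro d
      have e1 : (MulAut.conj x).toEquiv d = x * d * x⁻¹ := rfl
      have e2 : x⁻¹ * (x * d * x⁻¹) * x = d := by group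
      have e3 : orderOf (x * d * x⁻¹) = orderOf d := by
        have := MulEquiv.orderOf_eq (MulAut.conj x) d
        rwa [MulAut.conj_apply] at this
      rw [e1, e2, e3, hF]
    rw [Finset.sum_congr rfl (fun x _ => h1 x), Finset.sum_const, Finset.card_univ,
      nsmul_eq_mul, Nat.card_eq_fintype_card]
  have hK : Kf p z = Finset.univ.filter (fun u : G => u ∈ Subgroup.center G) := by
    ext y
    rw [Cfsg.Agent.Lib.Helper83.HPT.hp_kfz p hnn χ z ζ hHP y]
    simp
  have hT3 : ∑ d : G, (if (d * z = z * d ∧ p ∣ orderOf d) then F d else 0) =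
      ∑ t ∈ Finset.univ.filter (fun t : ZMod p => t ≠ 0),
        ∑ u ∈ Finset.univ.filter (fun u : G => u ∈ Subgroup.center G), F (z ^ t.val * u) := by
    have h := (Cfsg.Agent.Lib.Helper35.BFT.cent_sum p hsq z hz
      (fun d => if p ∣ orderOf d then F d else 0)).2
    have h1 : ∑ d : G, (if (d * z = z * d ∧ p ∣ orderOf d) then F d else 0) =
        ∑ g : G, (if g ∈ Subgroup.centralizer ({z} : Set G) then
          (if p ∣ orderOf g then F g else 0) else 0) := by
      refine Finset.sum_congr rfl fun d _ => ?_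
      have hiff : d ∈ Subgroup.centralizer ({z} : Set G) ↔ d * z = z * d := by
        simp only [Subgroup.mem_centralizer_iff, Set.mem_singleton_iff, forall_eq]
        exact eq_comm
      by_cases hd : d * z = z * d
      · rw [if_pos (hiff.mpr hd)]
        by_cases hpd : p ∣ orderOf d
        · rw [if_pos ⟨hd, hpd⟩, if_pos hpd]
        · rw [if_neg (fun h => hpd h.2), if_neg hpd]
      · rw [if_neg (fun h => hd h.1), if_neg (fun h => hd (hiff.mp h))]
    rw [h1, h, hK, Finset.sum_filter]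
    refine Finset.sum_congr rfl fun t _ => ?_
    by_cases ht : t = 0
    · rw [if_neg (not_not.mpr ht)]
      apply Finset.sum_eq_zero
      intro u hu
      have hu' : u ∈ Subgroup.center G := (Finset.mem_filter.mp hu).2
      rw [ht, ZMod.val_zero, pow_zero, one_mul]
      exact if_neg (moment_center_reg p hnn u hu')
    · rw [if_pos ht]
      refine Finset.sum_congr rfl fun u hu => ?_
      have hu' : u ∈ Subgroup.center G := (Finset.mem_filter.mp hu).2
      exact if_pos (moment_sing_of p hnn z hz t ht u hu')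
  rw [← hT1, hT2, hT3]

end grp

/-- TOP PIECE MOMENT -/
theorem hp_moment {G : Type u} [Group G] [Fintype G] (p : ℕ) [Fact p.Prime]
    (hdiv : p ∣ Nat.card G) (hsq : ¬ p ^ 2 ∣ Nat.card G)
    (hnn : ∀ H : Subgroup G, H.Normal → Nat.card H ≠ p)
    (χ : IrrCharacter G) (hfaith : ∀ g : G, χ.1 g = χ.1 1 → g = 1)
    (hdeg : 2 * charDegree χ.1 + 1 = p) (z : G) (ζ : ℂ) (hHP : HP p ζ z χ.1)
    (habs : ∀ g : G, ¬ p ∣ orderOf g → g ∉ Subgroup.center G → ‖χ.1 g‖ ≤ 1)
    (h4 : (Nat.card G : ℝ) * (1 + ((charDegree χ.1 / 2 : ℕ) : ℝ)) ≤ ∑ g : G, ‖χ.1 g‖ ^ 4) :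
    2 * Nat.card G ≤ Nat.card (Subgroup.center G) * (p * (p ^ 2 - 1)) := by
  classical
  have hp : p.Prime := Fact.out
  have hz := hHP.hz
  have hζ := hHP.hζ
  obtain ⟨hd1, hd0⟩ := Cfsg.Agent.Lib.Helper82.irr_charDegree χ
  set e := charDegree χ.1 with he
  have hp2 : p ≠ 2 := by omega
  have hpe : (p - 1) / 2 = e := by omega
  have hp_eq : p = 2 * e + 1 := by omega
  obtain ⟨hcard, h0, -, -, hpars, -⟩ := eta_facts p hp2 ζ hζ
  rw [hpe] at hcard h0 hpars
  have hχ1 : χ.1 1 = (e : ℂ) := hd1.symm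
  -- `e = 1` is impossible
  have he2 : 2 ≤ e := by
    by_contra hlt
    have he1 : e = 1 := by have := hp.two_le; omega
    rw [he1] at hcard
    obtain ⟨a, ha⟩ := Finset.card_eq_one.mp hcard
    have hv : χ.1 z = ζ ^ (a * 1).val := by
      have h := hHP.hval 1
      rw [ZMod.val_one, pow_one] at h
      rw [h]; unfold eta; rw [ha, Finset.sum_singleton]
    have hn : ‖ζ ^ (a * 1).val‖ = 1 := by
      rw [norm_pow, hζ.norm'_eq_one hp.ne_zero, one_pow]
    have hzc : z ∈ Subgroup.center G := by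
      refine Cfsg.Agent.Lib.Helper67.BFT.central_of_norm χ hfaith z _ hn ?_
      rw [hv, hχ1, he1]; simp
    exact Cfsg.Agent.Lib.Helper83.HPT.kfz_no_central p hnn z hzc hz
  set c := Nat.card (Subgroup.center G) with hc
  have hcpos : 0 < c := Nat.card_pos
  have hNpos : 0 < Nat.card G := Nat.card_pos
  -- second moment over `G`
  have hA : ∑ g : G, ‖χ.1 g‖ ^ 2 = (Nat.card G : ℝ) := by
    have h := Cfsg.Agent.Lib.Helper83.irr_orthonormal χ χ
    rw [if_pos rfl] at h
    unfold classInner at h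
    have hne : (Nat.card G : ℂ) ≠ 0 := by exact_mod_cast hNpos.ne'
    have h1 : ∑ g : G, χ.1 g * conj (χ.1 g) = (Nat.card G : ℂ) := by
      rw [inv_mul_eq_iff_eq_mul₀ hne, mul_one] at h
      exact h
    have h2 : ((∑ g : G, ‖χ.1 g‖ ^ 2 : ℝ) : ℂ) = ((Nat.card G : ℝ) : ℂ) := by
      push_cast
      rw [← h1]
      refine Finset.sum_congr rfl fun g _ => ?_
      rw [Complex.mul_conj']
    exact_mod_cast h2
  -- values on the centre and on the `p`-singular part
  have hZv : ∀ u ∈ Subgroup.center G, ‖χ.1 u‖ = (e : ℝ) := fun u hu =>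
    Cfsg.Agent.Lib.Helper83.irr_central_norm χ u hu
  have he0 : (0 : ℝ) < (e : ℝ) := by exact_mod_cast (by omega : 0 < e)
  have hSv : ∀ (t : ZMod p) (u : G), u ∈ Subgroup.center G →
      ‖χ.1 (z ^ t.val * u)‖ = ‖eta p ζ t‖ := by
    intro t u hu
    have h1 := Cfsg.Agent.Lib.Helper83.irr_central_mul χ u hu (z ^ t.val)
    have h2 : z ^ t.val * u = u * z ^ t.val := Subgroup.mem_center_iff.mp hu _
    rw [h2, ← hHP.hval t]
    have h3 := congrArg norm h1
    rw [norm_mul, norm_mul, hZv u hu, hχ1, Complex.norm_natCast] at h3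
    exact mul_right_cancel₀ he0.ne' (h3.trans (mul_comm _ _))
  -- the Gauss period sums
  have hA2 : ∑ t ∈ Finset.univ.filter (fun t : ZMod p => t ≠ 0), ‖eta p ζ t‖ ^ 2 =
      (p : ℝ) * e - (e : ℝ) ^ 2 := by
    have h1 : ∑ t : ZMod p, ‖eta p ζ t‖ ^ 2 = (p : ℝ) * e := by
      have h2 : ((∑ t : ZMod p, ‖eta p ζ t‖ ^ 2 : ℝ) : ℂ) = (((p : ℝ) * e : ℝ) : ℂ) := by
        push_cast
        rw [← Nat.cast_mul, ← hpars]
        refine Finset.sum_congr rfl fun t _ => ?_
        rw [Complex.mul_conj']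
      exact_mod_cast h2
    rw [Finset.filter_ne' Finset.univ (0 : ZMod p)]
    have h3 := Finset.add_sum_erase Finset.univ (fun t : ZMod p => ‖eta p ζ t‖ ^ 2)
      (Finset.mem_univ 0)
    rw [h1, h0, Complex.norm_natCast] at h3
    linarith
  have hA4 := eta_four p hp2 ζ hζ e (by omega)
  -- the three parts
  have hZsum : ∑ g ∈ Finset.univ.filter (fun g : G => g ∈ Subgroup.center G),
      (‖χ.1 g‖ ^ 2 - ‖χ.1 g‖ ^ 4) = (c : ℝ) * ((e : ℝ) ^ 2 - (e : ℝ) ^ 4) := by
    have h1 : ∀ g ∈ Finset.univ.filter (fun g : G => g ∈ Subgroup.center G),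
        (‖χ.1 g‖ ^ 2 - ‖χ.1 g‖ ^ 4) = ((e : ℝ) ^ 2 - (e : ℝ) ^ 4) := by
      intro g hg
      rw [hZv g (Finset.mem_filter.mp hg).2]
    rw [Finset.sum_congr rfl h1, Finset.sum_const, nsmul_eq_mul]
    congr 2
    rw [hc, Nat.card_eq_fintype_card, Fintype.card_subtype]
  have hSsum : ((p * c * e : ℕ) : ℝ) *
      ∑ g ∈ Finset.univ.filter (fun g : G => p ∣ orderOf g), (‖χ.1 g‖ ^ 2 - ‖χ.1 g‖ ^ 4) =
      (Nat.card G : ℝ) * ((c : ℝ) * (((p : ℝ) * e - (e : ℝ) ^ 2) -
        ∑ t ∈ Finset.univ.filter (fun t : ZMod p => t ≠ 0), ‖eta p ζ t‖ ^ 4)) := by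
    have h := moment_sing_sum p hp2 hsq hnn χ.1 z ζ hHP
      (fun g => ((‖χ.1 g‖ ^ 2 - ‖χ.1 g‖ ^ 4 : ℝ) : ℂ))
      (fun x g => by rw [Cfsg.Agent.Lib.Helper83.irr_classFunction χ.2 g x])
    rw [hpe] at h
    have hR : ((p * c * e : ℕ) : ℝ) *
        ∑ g ∈ Finset.univ.filter (fun g : G => p ∣ orderOf g), (‖χ.1 g‖ ^ 2 - ‖χ.1 g‖ ^ 4) =
        (Nat.card G : ℝ) * ∑ t ∈ Finset.univ.filter (fun t : ZMod p => t ≠ 0),
          ∑ u ∈ Finset.univ.filter (fun u : G => u ∈ Subgroup.center G),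
            (‖χ.1 (z ^ t.val * u)‖ ^ 2 - ‖χ.1 (z ^ t.val * u)‖ ^ 4) := by
      exact_mod_cast h
    rw [hR, ← hA2]
    congr 1
    rw [← Finset.sum_sub_distrib, Finset.mul_sum]
    refine Finset.sum_congr rfl fun t _ => ?_
    have h1 : ∀ u ∈ Finset.univ.filter (fun u : G => u ∈ Subgroup.center G),
        (‖χ.1 (z ^ t.val * u)‖ ^ 2 - ‖χ.1 (z ^ t.val * u)‖ ^ 4) =
          (‖eta p ζ t‖ ^ 2 - ‖eta p ζ t‖ ^ 4) := by
      intro u hu
      rw [hSv t u (Finset.mem_filter.mp hu).2]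
    rw [Finset.sum_congr rfl h1, Finset.sum_const, nsmul_eq_mul]
    congr 2
    rw [hc, Nat.card_eq_fintype_card, Fintype.card_subtype]
  have hkey : ∑ g ∈ Finset.univ.filter (fun g : G => g ∈ Subgroup.center G),
        (‖χ.1 g‖ ^ 2 - ‖χ.1 g‖ ^ 4) +
      ∑ g ∈ Finset.univ.filter (fun g : G => p ∣ orderOf g), (‖χ.1 g‖ ^ 2 - ‖χ.1 g‖ ^ 4) ≤
      (Nat.card G : ℝ) - ∑ g : G, ‖χ.1 g‖ ^ 4 := by
    rw [← hA, ← Finset.sum_sub_distrib,
      ← Finset.sum_filter_add_sum_filter_not Finset.univ (fun g : G => g ∈ Subgroup.center G)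
        (fun g => ‖χ.1 g‖ ^ 2 - ‖χ.1 g‖ ^ 4)]
    apply add_le_add le_rfl
    apply Finset.sum_le_sum_of_subset_of_nonneg
    · intro g hg
      have hpg := (Finset.mem_filter.mp hg).2
      exact Finset.mem_filter.mpr
        ⟨Finset.mem_univ _, fun hgc => moment_center_reg p hnn g hgc hpg⟩
    · intro g hg hgS
      have hgc := (Finset.mem_filter.mp hg).2
      have hpg : ¬ p ∣ orderOf g := fun h => hgS (Finset.mem_filter.mpr ⟨Finset.mem_univ _, h⟩)
      have h1 := habs g hpg hgc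
      have hn0 := norm_nonneg (χ.1 g)
      have h2 : ‖χ.1 g‖ ^ 2 ≤ 1 := pow_le_one₀ hn0 h1
      have h3 := mul_nonneg (sq_nonneg ‖χ.1 g‖) (sub_nonneg.mpr h2)
      have h5 : ‖χ.1 g‖ ^ 2 * (1 - ‖χ.1 g‖ ^ 2) = ‖χ.1 g‖ ^ 2 - ‖χ.1 g‖ ^ 4 := by ring
      rw [h5] at h3
      exact h3
  -- the final computation
  have hP : (p : ℝ) = 2 * (e : ℝ) + 1 := by rw [hp_eq]; push_cast; ring
  have hC0 : (0 : ℝ) < (c : ℝ) := by exact_mod_cast hcpos
  have hE2 : (2 : ℝ) ≤ (e : ℝ) := by exact_mod_cast he2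
  have hPCE : ((p * c * e : ℕ) : ℝ) = (p : ℝ) * c * e := by push_cast; ring
  rw [hPCE] at hSsum
  rw [hZsum] at hkey
  generalize hQ4 : ∑ g : G, ‖χ.1 g‖ ^ 4 = Q4 at *
  generalize hSs : ∑ g ∈ Finset.univ.filter (fun g : G => p ∣ orderOf g),
    (‖χ.1 g‖ ^ 2 - ‖χ.1 g‖ ^ 4) = Ss at *
  generalize hA4' : ∑ t ∈ Finset.univ.filter (fun t : ZMod p => t ≠ 0), ‖eta p ζ t‖ ^ 4 = A4 at *
  have hreal : (Nat.card G : ℝ) ≤ 2 * (p : ℝ) * c * e * ((e : ℝ) + 1) := by
    generalize hNr : (Nat.card G : ℝ) = Nr at *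
    generalize hm : ((e / 2 : ℕ) : ℝ) = m at *
    have hPCEpos : 0 < (p : ℝ) * c * e := by rw [hP]; positivity
    have h5 : (p : ℝ) * c * e * ((c : ℝ) * ((e : ℝ) ^ 2 - (e : ℝ) ^ 4)) +
        Nr * ((c : ℝ) * (((p : ℝ) * e - (e : ℝ) ^ 2) - A4)) ≤
        (p : ℝ) * c * e * (Nr - Nr * (1 + m)) := by
      have h6 := mul_le_mul_of_nonneg_left hkey hPCEpos.le
      have h7 : (p : ℝ) * c * e * (Nr - Q4) ≤ (p : ℝ) * c * e * (Nr - Nr * (1 + m)) :=
        mul_le_mul_of_nonneg_left (by linarith) hPCEpos.le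
      rw [mul_add, hSsum] at h6
      linarith
    have h8 : (p : ℝ) * e * ((c : ℝ) * ((e : ℝ) ^ 2 - (e : ℝ) ^ 4)) +
        Nr * (((p : ℝ) * e - (e : ℝ) ^ 2) - A4) ≤ (p : ℝ) * e * (-(Nr * m)) := by
      have h9 : (c : ℝ) * ((p : ℝ) * e * ((c : ℝ) * ((e : ℝ) ^ 2 - (e : ℝ) ^ 4)) +
          Nr * (((p : ℝ) * e - (e : ℝ) ^ 2) - A4)) ≤ (c : ℝ) * ((p : ℝ) * e * (-(Nr * m))) := by
        linarith
      exact le_of_mul_le_mul_left h9 hC0
    have hpos : (0 : ℝ) < (e : ℝ) ^ 2 * ((e : ℝ) - 1) / 2 := by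
      have : (0 : ℝ) < (e : ℝ) - 1 := by linarith
      positivity
    have h10 : (e : ℝ) ^ 2 * ((e : ℝ) - 1) / 2 * Nr ≤
        (e : ℝ) ^ 2 * ((e : ℝ) - 1) / 2 * (2 * (p : ℝ) * c * e * ((e : ℝ) + 1)) := by
      rw [hP] at h8 ⊢
      by_cases hev : Even e
      · rw [if_pos hev] at hA4
        have hm2 : m = (e : ℝ) / 2 := by
          obtain ⟨k, hk⟩ := hev
          have h11 : 2 * (e / 2) = e := by omega
          have h12 : (2 : ℝ) * ((e / 2 : ℕ) : ℝ) = (e : ℝ) := by exact_mod_cast h11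
          rw [← hm]; linarith
        rw [hA4, hm2] at h8
        linarith
      · rw [if_neg hev] at hA4
        have hm2 : m = ((e : ℝ) - 1) / 2 := by
          have hodd : e % 2 = 1 := by
            rcases Nat.even_or_odd e with h | h
            · exact absurd h hev
            · exact Nat.odd_iff.mp h
          have h11 : 2 * (e / 2) + 1 = e := by omega
          have h12 : (2 : ℝ) * ((e / 2 : ℕ) : ℝ) + 1 = (e : ℝ) := by exact_mod_cast h11
          rw [← hm]; linarith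
        rw [hA4, hm2] at h8
        linarith
    exact le_of_mul_le_mul_left h10 hpos
  have hpp : p ^ 2 = 4 * e * (e + 1) + 1 := by rw [hp_eq]; ring
  have hpp' : p ^ 2 - 1 = 4 * e * (e + 1) := by omega
  rw [hpp']
  have hfin : ((2 * Nat.card G : ℕ) : ℝ) ≤ ((c * (p * (4 * e * (e + 1))) : ℕ) : ℝ) := by
    push_cast
    linarith
  exact_mod_cast hfin

end Cfsg.Agent.Lib.Helper31.HPT
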