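import Mathlib

set_option autoImplicit false

namespace Cfsg.Agent.Lib.Helper31.AutOrd

theorem arithf_geom (b d : ℕ) :
    b * ∑ i ∈ Finset.range d, (b + 1) ^ i + 1 = (b + 1) ^ d := by
  induction d with
  | zero => simp
  | succ d ih =>
    rw [Finset.sum_range_succ, mul_add, pow_succ]
    nlinarith [ih]

/-- `e ≤ 2 ^ (e - 1)`-type bound used in the induction step. -/
theorem arithf_two_pow (e : ℕ) : e + 1 ≤ 2 ^ e := by
  induction e with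
  | zero => simp
  | succ e ih => rw [pow_succ]; omega

theorem arithf_step (q₀ e d : ℕ) (hq₀ : 2 ≤ q₀) (he : 2 ≤ e) (hd : 1 ≤ d) :
    e * q₀ ^ d ≤ (q₀ ^ e) ^ d := by
  obtain ⟨e', rfl⟩ : ∃ e', e = e' + 1 := ⟨e - 1, by omega⟩
  have h1 : (q₀ ^ (e' + 1)) ^ d = q₀ ^ d * q₀ ^ (e' * d) := by
    rw [← pow_mul, ← pow_add]
    congr 1
    ring
  rw [h1, mul_comm]
  apply Nat.mul_le_mul_left
  calc e' + 1 ≤ 2 ^ e' := arithf_two_pow e'
    _ ≤ 2 ^ (e' * d) := Nat.pow_le_pow_right (by omega) (Nat.le_mul_of_pos_right _ (by omega))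
    _ ≤ q₀ ^ (e' * d) := Nat.pow_le_pow_left hq₀ _

theorem arithf_base_step (q₀ e : ℕ) (hq₀ : 2 ≤ q₀) (he : 2 ≤ e)
    (h : e * (1 + q₀) ≤ 1 + q₀ ^ e) : (e + 1) * (1 + q₀) ≤ 1 + q₀ ^ (e + 1) := by
  rw [pow_succ]
  have h1 : e * (1 + q₀) * q₀ ≤ (1 + q₀ ^ e) * q₀ := Nat.mul_le_mul_right _ h
  nlinarith [Nat.mul_le_mul hq₀ hq₀, Nat.mul_le_mul he (Nat.mul_le_mul hq₀ hq₀)]

theorem arithf_base (q₀ e : ℕ) (hq₀ : 2 ≤ q₀) (he : 2 ≤ e) (hne : ¬ (q₀ = 2 ∧ e = 2)) :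
    e * (1 + q₀) ≤ 1 + q₀ ^ e := by
  by_cases h3 : 3 ≤ q₀
  · induction e, he using Nat.le_induction with
    | base => nlinarith
    | succ e he ih =>
      exact arithf_base_step q₀ e hq₀ he (ih (by
        rintro ⟨h, -⟩; omega))
  · have hq2 : q₀ = 2 := by omega
    subst hq2
    have he3 : 3 ≤ e := by
      by_contra h
      exact hne ⟨rfl, by omega⟩
    clear hne he
    induction e, he3 using Nat.le_induction with
    | base => norm_num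
    | succ e he ih => exact arithf_base_step 2 e (by norm_num) (by omega) ih

theorem arithf_claim (q₀ e : ℕ) (hq₀ : 2 ≤ q₀) (he : 2 ≤ e) (d₀ : ℕ) (hd₀ : 1 ≤ d₀)
    (hbase : e * ∑ i ∈ Finset.range d₀, q₀ ^ i ≤ ∑ i ∈ Finset.range d₀, (q₀ ^ e) ^ i) :
    ∀ d, d₀ ≤ d → e * ∑ i ∈ Finset.range d, q₀ ^ i ≤ ∑ i ∈ Finset.range d, (q₀ ^ e) ^ i := by
  intro d hd
  induction d, hd using Nat.le_induction with
  | base => exact hbase
  | succ d hd ih =>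
    rw [Finset.sum_range_succ, Finset.sum_range_succ, mul_add]
    exact Nat.add_le_add ih (arithf_step q₀ e d hq₀ he (by omega))

theorem arith_field (d q₀ e q x : ℕ) (hd : 2 ≤ d) (hq₀ : 2 ≤ q₀) (he : 2 ≤ e) (hq : q₀ ^ e = q)
    (h24 : ¬ (d = 2 ∧ q = 4)) (hx : (q₀ - 1) * x ≤ e * (q₀ ^ d - 1)) :
    (q - 1) * x ≤ q ^ d - 1 := by
  subst hq
  -- the claim `e * N₀(d) ≤ N(d)`
  have hclaim : e * ∑ i ∈ Finset.range d, q₀ ^ i ≤ ∑ i ∈ Finset.range d, (q₀ ^ e) ^ i := by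
    by_cases hex : q₀ = 2 ∧ e = 2
    · obtain ⟨rfl, rfl⟩ := hex
      have hd3 : 3 ≤ d := by
        by_contra h
        exact h24 ⟨by omega, by norm_num⟩
      exact arithf_claim 2 2 (by norm_num) (by norm_num) 3 (by norm_num)
        (by simp [Finset.sum_range_succ]) d hd3
    · have hb := arithf_base q₀ e hq₀ he hex
      exact arithf_claim q₀ e hq₀ he 2 (by norm_num)
        (by simpa [Finset.sum_range_succ] using hb) d hd
  obtain ⟨b₀, rfl⟩ : ∃ b₀, q₀ = b₀ + 1 := ⟨q₀ - 1, by omega⟩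
  have hb₀ : 1 ≤ b₀ := by omega
  have hg₀ := arithf_geom b₀ d
  have hqpos : 1 ≤ (b₀ + 1) ^ e := Nat.one_le_pow _ _ (by omega)
  obtain ⟨b, hb⟩ : ∃ b, (b₀ + 1) ^ e = b + 1 := ⟨(b₀ + 1) ^ e - 1, by omega⟩
  rw [hb] at hclaim ⊢
  have hg := arithf_geom b d
  simp only [Nat.add_one_sub_one] at hx ⊢
  have h1 : (b₀ + 1) ^ d - 1 = b₀ * ∑ i ∈ Finset.range d, (b₀ + 1) ^ i := by omega
  have h2 : (b + 1) ^ d - 1 = b * ∑ i ∈ Finset.range d, (b + 1) ^ i := by omega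
  rw [h1] at hx
  rw [h2]
  have h3 : x ≤ e * ∑ i ∈ Finset.range d, (b₀ + 1) ^ i := by
    have h4 : b₀ * x ≤ b₀ * (e * ∑ i ∈ Finset.range d, (b₀ + 1) ^ i) := by
      calc b₀ * x ≤ e * (b₀ * ∑ i ∈ Finset.range d, (b₀ + 1) ^ i) := hx
        _ = b₀ * (e * ∑ i ∈ Finset.range d, (b₀ + 1) ^ i) := by ring
    exact Nat.le_of_mul_le_mul_left h4 (by omega)
  exact Nat.mul_le_mul_left _ (le_trans h3 hclaim)

end Cfsg.Agent.Lib.Helper31.AutOrd
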