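import Mathlib

set_option autoImplicit false

namespace Cfsg.Agent.Lib.Helper31.AutOrd

theorem arithg_geom (b d : ℕ) :
    b * (∑ i ∈ Finset.range d, (b + 1) ^ i) + 1 = (b + 1) ^ d := by
  induction d with
  | zero => simp
  | succ n ih => rw [Finset.sum_range_succ, pow_succ]; nlinarith [ih]

theorem arithg_two_pow (n : ℕ) : 2 * (n + 3) ≤ 2 ^ (2 * n + 3) := by
  induction n with
  | zero => norm_num
  | succ n ih =>
    have h : 2 ^ (2 * (n + 1) + 3) = 4 * 2 ^ (2 * n + 3) := by ring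
    omega

theorem arith_graph (d q' e' q x : ℕ) (hd : 3 ≤ d) (hq' : 2 ≤ q') (he : 2 ≤ e') (hq : q' ^ e' = q)
    (h4 : e' = 2 → 4 ≤ q') (hx : (q' - 1) * x ≤ e' * (q' ^ d - 1)) :
    (q - 1) * (2 * x) ≤ q ^ d - 1 := by
  obtain ⟨b, rfl⟩ : ∃ b, q' = b + 1 := ⟨q' - 1, by omega⟩
  have hb : 1 ≤ b := by omega
  have hq1 : 1 ≤ q := by rw [← hq]; exact Nat.one_le_pow _ _ (by omega)
  obtain ⟨c, rfl⟩ : ∃ c, q = c + 1 := ⟨q - 1, by omega⟩
  obtain ⟨d', rfl⟩ : ∃ d', d = d' + 3 := ⟨d - 3, by omega⟩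
  obtain ⟨e'', rfl⟩ : ∃ e'', e' = e'' + 2 := ⟨e' - 2, by omega⟩
  have g1 := arithg_geom b (d' + 3)
  have g2 := arithg_geom c (d' + 3)
  simp only [Nat.add_sub_cancel] at hx ⊢
  have hx1 : x ≤ (e'' + 2) * ∑ i ∈ Finset.range (d' + 3), (b + 1) ^ i := by
    have h1 : (b + 1) ^ (d' + 3) - 1 = b * ∑ i ∈ Finset.range (d' + 3), (b + 1) ^ i := by omega
    rw [h1] at hx
    have h2 : b * x ≤ b * ((e'' + 2) * ∑ i ∈ Finset.range (d' + 3), (b + 1) ^ i) := by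
      calc b * x ≤ (e'' + 2) * (b * ∑ i ∈ Finset.range (d' + 3), (b + 1) ^ i) := hx
        _ = _ := by ring
    exact Nat.le_of_mul_le_mul_left h2 (by omega)
  have hN' : ∑ i ∈ Finset.range (d' + 3), (b + 1) ^ i ≤ (b + 1) ^ (d' + 3) := by
    have h1 : ∑ i ∈ Finset.range (d' + 3), (b + 1) ^ i
        ≤ b * ∑ i ∈ Finset.range (d' + 3), (b + 1) ^ i :=
      Nat.le_mul_of_pos_left _ (by omega)
    omega
  have hk : 2 * (e'' + 2) ≤ (b + 1) ^ (e'' * d' + 2 * e'' + d' + 1) := by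
    rcases Nat.eq_zero_or_pos e'' with h0 | h0
    · subst h0
      have h4' : 4 ≤ b + 1 := h4 rfl
      calc 2 * (0 + 2) = 4 := by norm_num
        _ ≤ b + 1 := h4'
        _ = (b + 1) ^ 1 := (pow_one _).symm
        _ ≤ (b + 1) ^ (0 * d' + 2 * 0 + d' + 1) :=
            Nat.pow_le_pow_right (by omega) (by omega)
    · obtain ⟨n, rfl⟩ : ∃ n, e'' = n + 1 := ⟨e'' - 1, by omega⟩
      have hexp : 2 * n + 3 ≤ (n + 1) * d' + 2 * (n + 1) + d' + 1 := by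
        have := Nat.zero_le ((n + 1) * d')
        omega
      calc 2 * (n + 1 + 2) = 2 * (n + 3) := by ring
        _ ≤ 2 ^ (2 * n + 3) := arithg_two_pow n
        _ ≤ (b + 1) ^ (2 * n + 3) := Nat.pow_le_pow_left (by omega) _
        _ ≤ (b + 1) ^ ((n + 1) * d' + 2 * (n + 1) + d' + 1) :=
            Nat.pow_le_pow_right (by omega) hexp
  have hqpow : (c + 1) ^ (d' + 2)
      = (b + 1) ^ (d' + 3) * (b + 1) ^ (e'' * d' + 2 * e'' + d' + 1) := by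
    rw [← hq, ← pow_mul, ← pow_add]; congr 1; ring
  have hsingle : (c + 1) ^ (d' + 2) ≤ ∑ i ∈ Finset.range (d' + 3), (c + 1) ^ i :=
    Finset.single_le_sum (f := fun i => (c + 1) ^ i) (fun i _ => Nat.zero_le _)
      (Finset.mem_range.mpr (by omega))
  have hmain : 2 * x ≤ ∑ i ∈ Finset.range (d' + 3), (c + 1) ^ i := by
    calc 2 * x ≤ 2 * ((e'' + 2) * ∑ i ∈ Finset.range (d' + 3), (b + 1) ^ i) :=
          Nat.mul_le_mul_left _ hx1
      _ ≤ 2 * ((e'' + 2) * (b + 1) ^ (d' + 3)) :=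
          Nat.mul_le_mul_left _ (Nat.mul_le_mul_left _ hN')
      _ = (b + 1) ^ (d' + 3) * (2 * (e'' + 2)) := by ring
      _ ≤ (b + 1) ^ (d' + 3) * (b + 1) ^ (e'' * d' + 2 * e'' + d' + 1) :=
          Nat.mul_le_mul_left _ hk
      _ = (c + 1) ^ (d' + 2) := hqpow.symm
      _ ≤ _ := hsingle
  have h3 : (c + 1) ^ (d' + 3) - 1 = c * ∑ i ∈ Finset.range (d' + 3), (c + 1) ^ i := by omega
  rw [h3]
  exact Nat.mul_le_mul_left _ hmain

end Cfsg.Agent.Lib.Helper31.AutOrd
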