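import Mathlib

set_option autoImplicit false

namespace Cfsg.Agent.Lib.Helper31.AutOrd

theorem arithq_aux (a : ℕ) (ha : 1 ≤ a) :
    ∀ k : ℕ, 2 ≤ k → a ^ k + k * a ^ (k - 1) + 1 ≤ (a + 1) ^ k := by
  intro k hk
  induction k, hk using Nat.le_induction with
  | base => simp only [Nat.add_one_sub_one, pow_one]; nlinarith
  | succ k hk ih =>
    have h1 : k + 1 - 1 = k := by omega
    rw [h1]
    have h2 : a ^ k = a * a ^ (k - 1) := by
      rw [← pow_succ']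
      congr 1
      omega
    have h3 : (a + 1) ^ (k + 1) = (a + 1) ^ k * (a + 1) := pow_succ _ _
    have h4 : a ^ (k + 1) = a ^ k * a := pow_succ _ _
    rw [h3, h4]
    have h5 : 0 < a ^ (k - 1) := Nat.pow_pos (by omega)
    have h6 : 0 < a ^ k := Nat.pow_pos (by omega)
    nlinarith [Nat.mul_le_mul_right (a + 1) ih]

theorem arithq_key (q : ℕ) (hq : 3 ≤ q) : 2 * (q - 1) ^ (q - 1) + 1 ≤ q ^ (q - 1) := by
  obtain ⟨n, rfl⟩ : ∃ n, q = n + 1 := ⟨q - 1, by omega⟩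
  simp only [Nat.add_one_sub_one]
  have h1 := arithq_aux n (by omega) n (by omega)
  have h2 : n * n ^ (n - 1) = n ^ n := by
    rw [← pow_succ']
    congr 1
    omega
  rw [h2] at h1
  omega

theorem arith_q (q d x : ℕ) (hq : 3 ≤ q) (hd : q - 1 ≤ d)
    (hx : x * q ^ (q - 1) ≤ q ^ d * (q - 1) ^ (q - 1)) : 2 * x ≤ q ^ d - 1 := by
  have hkey := arithq_key q hq
  have hA : q ^ (q - 1) ≤ q ^ d := Nat.pow_le_pow_right (by omega) hd
  have hD : 0 < q ^ d := Nat.pow_pos (by omega)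
  by_contra hcon
  have h1 : q ^ d ≤ 2 * x := by omega
  have h2 : q ^ d * q ^ (q - 1) ≤ 2 * x * q ^ (q - 1) := Nat.mul_le_mul_right _ h1
  have h3 : q ^ d * (2 * (q - 1) ^ (q - 1) + 1) ≤ q ^ d * q ^ (q - 1) :=
    Nat.mul_le_mul_left _ hkey
  nlinarith

end Cfsg.Agent.Lib.Helper31.AutOrd
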