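import Mathlib

set_option autoImplicit false

open Matrix Polynomial

namespace Cfsg.Agent.Lib.Helper31.AutOrd

/-- Cayley–Hamilton: every power of a `d × d` matrix is a combination of `1, M, …, M^(d-1)`. -/
theorem ch_span {F : Type*} [Field F] {d : ℕ} (M : Matrix (Fin d) (Fin d) F) (j : ℕ) :
    ∃ a : Fin d → F, M ^ j = ∑ i, a i • M ^ (i : ℕ) := by
  classical
  have hmon : M.charpoly.Monic := Matrix.charpoly_monic M
  have hdeg : M.charpoly.natDegree = d := by
    have := Matrix.charpoly_natDegree_eq_dim M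
    rw [Fintype.card_fin] at this
    exact this
  have h1 : aeval M (X ^ j %ₘ M.charpoly) = M ^ j := by
    have h2 := Polynomial.modByMonic_add_div (X ^ j : F[X]) M.charpoly
    have h3 : aeval M (X ^ j : F[X]) = M ^ j := by simp
    rw [← h3]
    conv_rhs => rw [← h2]
    simp [Matrix.aeval_self_charpoly]
  by_cases hd : d = 0
  · subst hd
    exact ⟨fun _ => 0, Subsingleton.elim _ _⟩
  have hplt : (X ^ j %ₘ M.charpoly).natDegree < d := by
    have h4 : (X ^ j %ₘ M.charpoly).natDegree < M.charpoly.natDegree := by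
      apply Polynomial.natDegree_modByMonic_lt _ hmon
      intro h1'
      rw [h1'] at hdeg
      simp at hdeg
      exact hd hdeg.symm
    rw [hdeg] at h4
    exact h4
  refine ⟨fun i => (X ^ j %ₘ M.charpoly).coeff i, ?_⟩
  rw [← h1, Polynomial.aeval_eq_sum_range' hplt,
    Fin.sum_univ_eq_sum_range (fun i => (X ^ j %ₘ M.charpoly).coeff i • M ^ i) d]

end Cfsg.Agent.Lib.Helper31.AutOrd
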