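import Mathlib

set_option autoImplicit false

open Matrix Polynomial

namespace Cfsg.Agent.Lib.Helper31.AutOrd

/-- If every nonzero scalar is an eigenvalue of a `d × d` matrix over a finite field `F`,
then `|F| - 1 ≤ d`. -/
theorem card_le_of_eig {F : Type*} [Field F] [Fintype F] {d : ℕ} (h : Matrix (Fin d) (Fin d) F)
    (heig : ∀ c : F, c ≠ 0 → (h - c • (1 : Matrix (Fin d) (Fin d) F)).det = 0) :
    Fintype.card F - 1 ≤ d := by
  classical
  have hmon : h.charpoly.Monic := Matrix.charpoly_monic h
  have hne : h.charpoly ≠ 0 := hmon.ne_zero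
  have hdeg : h.charpoly.natDegree = d := by
    have := Matrix.charpoly_natDegree_eq_dim h
    rw [Fintype.card_fin] at this
    exact this
  have hroot : ∀ c : F, c ≠ 0 → c ∈ h.charpoly.roots.toFinset := by
    intro c hc
    rw [Multiset.mem_toFinset, Polynomial.mem_roots hne, Polynomial.IsRoot, Matrix.eval_charpoly]
    have h1 : (Matrix.scalar (Fin d)) c - h = -(h - c • (1 : Matrix (Fin d) (Fin d) F)) := by
      rw [neg_sub]
      congr 1
      ext i j
      simp [Matrix.scalar, Matrix.diagonal, Matrix.one_apply]
    rw [h1, Matrix.det_neg, heig c hc, mul_zero]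
  have hsub : (Finset.univ.filter (fun c : F => c ≠ 0)) ⊆ h.charpoly.roots.toFinset := by
    intro c hc
    rw [Finset.mem_filter] at hc
    exact hroot c hc.2
  have hcard : (Finset.univ.filter (fun c : F => c ≠ 0)).card = Fintype.card F - 1 := by
    rw [Finset.filter_ne' Finset.univ (0 : F), Finset.card_erase_of_mem (Finset.mem_univ _),
      Finset.card_univ]
  calc Fintype.card F - 1 = (Finset.univ.filter (fun c : F => c ≠ 0)).card := hcard.symm
    _ ≤ h.charpoly.roots.toFinset.card := Finset.card_le_card hsub
    _ ≤ Multiset.card h.charpoly.roots := Multiset.toFinset_card_le _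
    _ ≤ h.charpoly.natDegree := Polynomial.card_roots' _
    _ = d := hdeg

end Cfsg.Agent.Lib.Helper31.AutOrd
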