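import Cfsg.Agent.Lib.Helper45.FPDefs

/-! S2276 project (helper45), leaf CYCEMB: a point of period `ℓ` gives an embedding of `ZMod ℓ`
intertwining `+ 1` with the permutation. -/

set_option autoImplicit false

namespace Cfsg.Agent.Lib.Helper31.FP

open Equiv Cfsg.Agent.Lib.Helper45.FP

/-- CYCEMB -/
theorem CYCEMB {α : Type*} [Fintype α] [DecidableEq α] (u : Perm α) (x₀ : α) (ℓ : ℕ) [NeZero ℓ]
    (h : Function.minimalPeriod u x₀ = ℓ) :
    ∃ ι : ZMod ℓ ↪ α, ι 0 = x₀ ∧ ∀ z, u (ι z) = ι (z + 1) := by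
  have hmod : ∀ k : ℕ, (u ^ (k % ℓ)) x₀ = (u ^ k) x₀ := by
    intro k
    rw [← Perm.iterate_eq_pow, ← Perm.iterate_eq_pow, ← h]
    exact Function.iterate_mod_minimalPeriod_eq
  refine ⟨⟨fun z => (u ^ z.val) x₀, ?_⟩, ?_, ?_⟩
  · intro z z' e
    simp only at e
    have e' : u^[z.val] x₀ = u^[z'.val] x₀ := by
      rw [Perm.iterate_eq_pow, Perm.iterate_eq_pow]; exact e
    have hz : z.val < Function.minimalPeriod u x₀ := by rw [h]; exact ZMod.val_lt z
    have hz' : z'.val < Function.minimalPeriod u x₀ := by rw [h]; exact ZMod.val_lt z'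
    exact ZMod.val_injective ℓ
      ((Function.iterate_eq_iterate_iff_of_lt_minimalPeriod hz hz').1 e')
  · show (u ^ (0 : ZMod ℓ).val) x₀ = x₀
    rw [ZMod.val_zero, pow_zero]
    rfl
  · intro z
    show u ((u ^ z.val) x₀) = (u ^ (z + 1).val) x₀
    rw [ZMod.val_add, ZMod.val_one_eq_one_mod, Nat.add_mod_mod, hmod, pow_succ', Perm.mul_apply]

end Cfsg.Agent.Lib.Helper31.FP
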