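import Cfsg.Agent.Lib.Helper45.FPDefs

/-! S2276 project (helper45), leaf M3B2: regime B, the commutator of the 4-swap element with
its translate is a 3-cycle. -/

set_option autoImplicit false
set_option linter.unusedVariables false

namespace Cfsg.Agent.Lib.Helper31.FP

open Equiv Cfsg.Agent.Lib.Helper45.FP

theorem m3b2_rot_pow_apply (ℓ : ℕ) (k : ℕ) (x : ZMod ℓ) :
    (rot ℓ ^ k) x = x + (k : ZMod ℓ) := by
  induction k generalizing x with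
  | zero => simp
  | succ k ih =>
    rw [pow_succ, Perm.mul_apply, rot_apply, ih]
    push_cast
    ring

theorem m3b2_rot_pow_inv_apply (ℓ : ℕ) (k : ℕ) (x : ZMod ℓ) :
    (rot ℓ ^ k)⁻¹ x = x - (k : ZMod ℓ) := by
  rw [Perm.inv_eq_iff_eq, m3b2_rot_pow_apply]
  ring

/-- two naturals below `2ℓ` with the same residue -/
theorem m3b2_cast_eq (ℓ : ℕ) (a b : ℕ) (ha : a < 2 * ℓ) (hb : b < 2 * ℓ)
    (h : ((a : ℕ) : ZMod ℓ) = ((b : ℕ) : ZMod ℓ)) : a = b ∨ a + ℓ = b ∨ b + ℓ = a := by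
  have h' := (ZMod.natCast_eq_natCast_iff' a b ℓ).1 h
  have e1 := Nat.div_add_mod a ℓ
  have e2 := Nat.div_add_mod b ℓ
  have x1 : a / ℓ < 2 := Nat.div_lt_of_lt_mul (by omega)
  have x2 : b / ℓ < 2 := Nat.div_lt_of_lt_mul (by omega)
  rw [h'] at e1
  generalize a / ℓ = x at e1 x1
  generalize b / ℓ = y at e2 x2
  generalize b % ℓ = r at e1 e2
  interval_cases x <;> interval_cases y <;> simp at e1 e2 <;> omega

theorem m3b2_cast_ne (ℓ : ℕ) (a b : ℕ)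
    (h : a < 2 * ℓ ∧ b < 2 * ℓ ∧ a ≠ b ∧ a + ℓ ≠ b ∧ b + ℓ ≠ a) :
    ((a : ℕ) : ZMod ℓ) ≠ ((b : ℕ) : ZMod ℓ) := by
  intro e
  rcases m3b2_cast_eq ℓ a b h.1 h.2.1 e with h1 | h1 | h1
  · exact h.2.2.1 h1
  · exact h.2.2.2.1 h1
  · exact h.2.2.2.2 h1

/-- M3B2: regime B, the 3-cycle -/
theorem M3B2 (p J μ ℓ : ℕ) [Fact p.Prime] (hp3 : 3 ≤ p) (hℓ : ℓ = J * (p * μ)) [NeZero ℓ]
    (hpJ : p ∣ J) (hμpow : ∃ b : ℕ, μ = p ^ b)
    (hspo : ∀ (σ τ : Perm (ZMod ℓ)) (x : ZMod ℓ), σ x ≠ x → τ x ≠ x →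
      (∀ y, σ y ≠ y → τ y ≠ y → y = x) → (σ * τ * σ⁻¹ * τ⁻¹).IsThreeCycle ∧ (σ * τ * σ⁻¹ * τ⁻¹) x = σ x)
    (ε : Perm (ZMod ℓ))
    (hε : ε = swap (0 : ZMod ℓ) ((J : ZMod ℓ) + 1) *
        swap ((J * μ : ℕ) : ZMod ℓ) (((J * μ : ℕ) : ZMod ℓ) + (J : ZMod ℓ) + 1) *
        swap (((J * μ : ℕ) : ZMod ℓ) + (J : ZMod ℓ))
          (((J * μ : ℕ) : ZMod ℓ) + 2 * (J : ZMod ℓ) + 1) *
        swap (J : ZMod ℓ) (2 * (J : ZMod ℓ) + 1)) :
    (ε * (rot ℓ ^ (J * μ - 1) * ε * (rot ℓ ^ (J * μ - 1))⁻¹) * ε⁻¹ *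
        (rot ℓ ^ (J * μ - 1) * ε * (rot ℓ ^ (J * μ - 1))⁻¹)⁻¹).IsThreeCycle ∧
      (ε * (rot ℓ ^ (J * μ - 1) * ε * (rot ℓ ^ (J * μ - 1))⁻¹) * ε⁻¹ *
        (rot ℓ ^ (J * μ - 1) * ε * (rot ℓ ^ (J * μ - 1))⁻¹)⁻¹)
          (((J * μ : ℕ) : ZMod ℓ) + (J : ZMod ℓ)) =
        ((J * μ : ℕ) : ZMod ℓ) + 2 * (J : ZMod ℓ) + 1 := by
  have hp : p.Prime := Fact.out
  have hℓ0 : ℓ ≠ 0 := NeZero.ne ℓ
  have hJ0 : J ≠ 0 := by
    rintro rfl
    apply hℓ0; rw [hℓ]; simp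
  have hJ3 : 3 ≤ J := le_trans hp3 (Nat.le_of_dvd (Nat.pos_of_ne_zero hJ0) hpJ)
  obtain ⟨q, hq⟩ : ∃ q, q = J * μ := ⟨_, rfl⟩
  have hcase : (3 * J ≤ q ∧ 3 * q ≤ ℓ) ∨ (q = J ∧ (ℓ = 3 * J ∨ 5 * J ≤ ℓ)) := by
    obtain ⟨b, rfl⟩ := hμpow
    rcases Nat.eq_zero_or_pos b with hb | hb
    · right
      subst hb
      rw [pow_zero, mul_one] at hq hℓ
      refine ⟨hq, ?_⟩
      rcases (by omega : p = 3 ∨ p = 4 ∨ 5 ≤ p) with h3 | h4 | h5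
      · left; rw [hℓ, h3, mul_comm]
      · exfalso; rw [h4] at hp; norm_num at hp
      · right; rw [hℓ, mul_comm 5 J]; exact Nat.mul_le_mul_left J h5
    · left
      have hμ3 : 3 ≤ p ^ b := by
        calc 3 ≤ p := hp3
          _ = p ^ 1 := (pow_one p).symm
          _ ≤ p ^ b := Nat.pow_le_pow_right hp.pos hb
      constructor
      · rw [hq, mul_comm 3 J]; exact Nat.mul_le_mul_left J hμ3
      · have e : ℓ = p * q := by rw [hℓ, hq]; ring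
        rw [e]; exact Nat.mul_le_mul_right q hp3
  rw [← hq] at hε ⊢
  clear hq hℓ hμpow hpJ
  -- natural-number form of `ε`
  have hε' : ε = swap ((0 : ℕ) : ZMod ℓ) ((J + 1 : ℕ) : ZMod ℓ) *
        swap ((q : ℕ) : ZMod ℓ) ((q + J + 1 : ℕ) : ZMod ℓ) *
        swap ((q + J : ℕ) : ZMod ℓ) ((q + 2 * J + 1 : ℕ) : ZMod ℓ) *
        swap ((J : ℕ) : ZMod ℓ) ((2 * J + 1 : ℕ) : ZMod ℓ) := by
    rw [hε]; push_cast; rfl
  have hval : ∀ y, ε y = swap ((0 : ℕ) : ZMod ℓ) ((J + 1 : ℕ) : ZMod ℓ)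
        (swap ((q : ℕ) : ZMod ℓ) ((q + J + 1 : ℕ) : ZMod ℓ)
        (swap ((q + J : ℕ) : ZMod ℓ) ((q + 2 * J + 1 : ℕ) : ZMod ℓ)
        (swap ((J : ℕ) : ZMod ℓ) ((2 * J + 1 : ℕ) : ZMod ℓ) y))) := by
    intro y; rw [hε']; simp only [Perm.mul_apply]
  have hne : ∀ a b : ℕ, (a < 2 * ℓ ∧ b < 2 * ℓ ∧ a ≠ b ∧ a + ℓ ≠ b ∧ b + ℓ ≠ a) →
      ((a : ℕ) : ZMod ℓ) ≠ ((b : ℕ) : ZMod ℓ) := m3b2_cast_ne ℓ
  -- the support of `ε`
  have hsupp : ∀ y, ε y ≠ y → ∃ n : ℕ, (n = 0 ∨ n = J + 1 ∨ n = q + J ∨ n = q + 2 * J + 1 ∨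
      ((n = q ∨ n = q + J + 1 ∨ n = J ∨ n = 2 * J + 1) ∧ 3 * J ≤ q)) ∧ y = ((n : ℕ) : ZMod ℓ) := by
    intro y hy
    by_contra hcon
    push Not at hcon
    apply hy
    have c0 := hcon 0 (Or.inl rfl)
    have c1 := hcon (J + 1) (Or.inr (Or.inl rfl))
    have c4 := hcon (q + J) (Or.inr (Or.inr (Or.inl rfl)))
    have c5 := hcon (q + 2 * J + 1) (Or.inr (Or.inr (Or.inr (Or.inl rfl))))
    rcases hcase with ⟨hA1, hA2⟩ | ⟨hB1, hB2⟩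
    · have c2 := hcon q (Or.inr (Or.inr (Or.inr (Or.inr ⟨Or.inl rfl, hA1⟩))))
      have c3 := hcon (q + J + 1)
        (Or.inr (Or.inr (Or.inr (Or.inr ⟨Or.inr (Or.inl rfl), hA1⟩))))
      have c6 := hcon J
        (Or.inr (Or.inr (Or.inr (Or.inr ⟨Or.inr (Or.inr (Or.inl rfl)), hA1⟩))))
      have c7 := hcon (2 * J + 1)
        (Or.inr (Or.inr (Or.inr (Or.inr ⟨Or.inr (Or.inr (Or.inr rfl)), hA1⟩))))
      rw [hval, swap_apply_of_ne_of_ne c6 c7, swap_apply_of_ne_of_ne c4 c5,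
        swap_apply_of_ne_of_ne c2 c3, swap_apply_of_ne_of_ne c0 c1]
    · subst hB1
      by_cases h6 : y = ((q : ℕ) : ZMod ℓ)
      · rw [hval, h6, swap_apply_left,
          swap_apply_of_ne_of_ne (hne _ _ (by omega)) (hne _ _ (by omega)),
          show ((2 * q + 1 : ℕ) : ZMod ℓ) = ((q + q + 1 : ℕ) : ZMod ℓ) by
            congr 1; omega,
          swap_apply_right,
          swap_apply_of_ne_of_ne (hne _ _ (by omega)) (hne _ _ (by omega))]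
      by_cases h7 : y = ((2 * q + 1 : ℕ) : ZMod ℓ)
      · rw [hval, h7, swap_apply_right,
          swap_apply_of_ne_of_ne (hne _ _ (by omega)) (hne _ _ (by omega)),
          swap_apply_left,
          show ((q + q + 1 : ℕ) : ZMod ℓ) = ((2 * q + 1 : ℕ) : ZMod ℓ) by
            congr 1; omega,
          swap_apply_of_ne_of_ne (hne _ _ (by omega)) (hne _ _ (by omega))]
      have h7' : y ≠ ((q + q + 1 : ℕ) : ZMod ℓ) := by
        rw [show ((q + q + 1 : ℕ) : ZMod ℓ) = ((2 * q + 1 : ℕ) : ZMod ℓ) by congr 1; omega]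
        exact h7
      rw [hval, swap_apply_of_ne_of_ne h6 h7, swap_apply_of_ne_of_ne c4 c5,
        swap_apply_of_ne_of_ne h6 h7', swap_apply_of_ne_of_ne c0 c1]
  -- two values
  have hx1 : ε ((q + J : ℕ) : ZMod ℓ) = ((q + 2 * J + 1 : ℕ) : ZMod ℓ) := by
    rw [hval, swap_apply_of_ne_of_ne (hne _ _ (by omega)) (hne _ _ (by omega)),
      swap_apply_left,
      swap_apply_of_ne_of_ne (hne _ _ (by omega)) (hne _ _ (by omega)),
      swap_apply_of_ne_of_ne (hne _ _ (by omega)) (hne _ _ (by omega))]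
  have hx2 : ε ((J + 1 : ℕ) : ZMod ℓ) = ((0 : ℕ) : ZMod ℓ) := by
    rw [hval, swap_apply_of_ne_of_ne (hne _ _ (by omega)) (hne _ _ (by omega)),
      swap_apply_of_ne_of_ne (hne _ _ (by omega)) (hne _ _ (by omega)),
      swap_apply_of_ne_of_ne (hne _ _ (by omega)) (hne _ _ (by omega)),
      swap_apply_right]
  -- the translate
  have hconj : ∀ y, (rot ℓ ^ (q - 1) * ε * (rot ℓ ^ (q - 1))⁻¹) y =
      ε (y - ((q - 1 : ℕ) : ZMod ℓ)) + ((q - 1 : ℕ) : ZMod ℓ) := by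
    intro y
    rw [Perm.mul_apply, Perm.mul_apply, m3b2_rot_pow_apply, m3b2_rot_pow_inv_apply]
  have hxd : ((q + J : ℕ) : ZMod ℓ) - ((q - 1 : ℕ) : ZMod ℓ) = ((J + 1 : ℕ) : ZMod ℓ) := by
    have e : q + J = (J + 1) + (q - 1) := by omega
    rw [e, Nat.cast_add]; ring
  have hgoal := hspo ε (rot ℓ ^ (q - 1) * ε * (rot ℓ ^ (q - 1))⁻¹) ((q + J : ℕ) : ZMod ℓ)
    (by rw [hx1]; exact hne _ _ (by omega))
    (by
      rw [hconj, hxd, hx2]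
      intro e
      have e2 : ((0 : ℕ) : ZMod ℓ) = ((J + 1 : ℕ) : ZMod ℓ) := by
        rw [← hxd]; linear_combination e
      exact hne _ _ (by omega) e2)
    (by
      intro y h1 h2
      obtain ⟨n, hn, rfl⟩ := hsupp y h1
      have h2' : ε (((n : ℕ) : ZMod ℓ) - ((q - 1 : ℕ) : ZMod ℓ)) ≠
          ((n : ℕ) : ZMod ℓ) - ((q - 1 : ℕ) : ZMod ℓ) := by
        intro e
        apply h2
        rw [hconj, e]; ring
      obtain ⟨m, hm, hy⟩ := hsupp _ h2'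
      have hcast : ((n : ℕ) : ZMod ℓ) = ((m + (q - 1) : ℕ) : ZMod ℓ) := by
        rw [Nat.cast_add]; linear_combination hy
      rcases m3b2_cast_eq ℓ n (m + (q - 1)) (by omega) (by omega) hcast with h | h | h
      · have : n = q + J := by omega
        rw [this]
      · have : n = q + J := by omega
        rw [this]
      · have : n = q + J := by omega
        rw [this])
  have e1 : ((q : ℕ) : ZMod ℓ) + (J : ZMod ℓ) = ((q + J : ℕ) : ZMod ℓ) := by push_cast; ring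
  have e2 : ((q : ℕ) : ZMod ℓ) + 2 * (J : ZMod ℓ) + 1 = ((q + 2 * J + 1 : ℕ) : ZMod ℓ) := by
    push_cast; ring
  rw [e1, e2, ← hx1]
  exact hgoal

end Cfsg.Agent.Lib.Helper31.FP
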