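import Cfsg.Agent.Lib.Helper45.FPDefs

/-! S2276 project (helper45), leaf ODDP: two orbits of the same odd size give an odd
permutation commuting with `w`. -/

set_option autoImplicit false

namespace Cfsg.Agent.Lib.Helper31.FP

open Equiv Cfsg.Agent.Lib.Helper45.FP

/-- product of the swaps `a k ↔ b k`, `k < n` -/
def oddp_prod {α : Type*} [DecidableEq α] (a b : ℕ → α) (n : ℕ) : Perm α :=
  ((List.range n).map (fun k => swap (a k) (b k))).prod

theorem oddp_prod_succ {α : Type*} [DecidableEq α] (a b : ℕ → α) (n : ℕ) :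
    oddp_prod a b (n + 1) = oddp_prod a b n * swap (a n) (b n) := by
  simp [oddp_prod, List.range_succ]

theorem oddp_prod_fix {α : Type*} [DecidableEq α] (a b : ℕ → α) (n : ℕ) (z : α)
    (h : ∀ k < n, z ≠ a k ∧ z ≠ b k) : oddp_prod a b n z = z := by
  induction n with
  | zero => simp [oddp_prod]
  | succ n ih =>
    rw [oddp_prod_succ, Perm.mul_apply,
      swap_apply_of_ne_of_ne (h n (Nat.lt_succ_self n)).1 (h n (Nat.lt_succ_self n)).2]
    exact ih (fun k hk => h k (Nat.lt_succ_of_lt hk))

theorem oddp_prod_apply {α : Type*} [DecidableEq α] (a b : ℕ → α) (n : ℕ)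
    (ha : ∀ i < n, ∀ j < n, a i = a j → i = j) (hb : ∀ i < n, ∀ j < n, b i = b j → i = j)
    (hab : ∀ i < n, ∀ j < n, a i ≠ b j) :
    ∀ j < n, oddp_prod a b n (a j) = b j ∧ oddp_prod a b n (b j) = a j := by
  induction n with
  | zero => intro j hj; omega
  | succ n ih =>
    intro j hj
    have ih' := ih (fun i hi j hj => ha i (by omega) j (by omega))
      (fun i hi j hj => hb i (by omega) j (by omega))
      (fun i hi j hj => hab i (by omega) j (by omega))
    rw [oddp_prod_succ, Perm.mul_apply, Perm.mul_apply]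
    rcases Nat.lt_succ_iff_lt_or_eq.1 hj with hlt | hjn
    · have h1 : a j ≠ a n := fun e => by
        have := ha j (by omega) n (by omega) e
        omega
      have h2 : a j ≠ b n := hab j (by omega) n (by omega)
      have h3 : b j ≠ a n := fun e => hab n (by omega) j (by omega) e.symm
      have h4 : b j ≠ b n := fun e => by
        have := hb j (by omega) n (by omega) e
        omega
      rw [swap_apply_of_ne_of_ne h1 h2, swap_apply_of_ne_of_ne h3 h4]
      exact ih' j hlt
    · rw [hjn, swap_apply_left, swap_apply_right]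
      constructor
      · apply oddp_prod_fix
        intro k hk
        exact ⟨fun e => hab k (by omega) n (by omega) e.symm, fun e => by
          have := hb n (by omega) k (by omega) e
          omega⟩
      · apply oddp_prod_fix
        intro k hk
        exact ⟨fun e => by
          have := ha n (by omega) k (by omega) e
          omega, fun e => hab n (by omega) k (by omega) e⟩

theorem oddp_prod_sign {α : Type*} [DecidableEq α] [Fintype α] (a b : ℕ → α) (n : ℕ)
    (hab : ∀ i < n, a i ≠ b i) : Equiv.Perm.sign (oddp_prod a b n) = (-1) ^ n := by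
  induction n with
  | zero => simp [oddp_prod]
  | succ n ih =>
    rw [oddp_prod_succ, map_mul, ih (fun i hi => hab i (by omega)),
      Equiv.Perm.sign_swap (hab n (by omega)), pow_succ]

/-- ODDP -/
theorem ODDP {α : Type*} [Fintype α] [DecidableEq α] (w : Perm α) (x y : α)
    (hper : Function.minimalPeriod w x = Function.minimalPeriod w y)
    (hodd : Odd (Function.minimalPeriod w x)) (hxy : ∀ k : ℕ, (w ^ k) x ≠ y) :
    ∃ π₀ : Perm α, Equiv.Perm.sign π₀ = -1 ∧ π₀ * w = w * π₀ := by
  obtain ⟨s, hs⟩ : ∃ s, s = Function.minimalPeriod w x := ⟨_, rfl⟩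
  rw [← hs] at hodd
  have hsy : s = Function.minimalPeriod w y := by rw [hs, hper]
  have hs1 : 1 ≤ s := by
    obtain ⟨k, hk⟩ := hodd
    omega
  have hamod : ∀ k, (w ^ (k % s)) x = (w ^ k) x := by
    intro k
    rw [← Perm.iterate_eq_pow, ← Perm.iterate_eq_pow, hs]
    exact Function.iterate_mod_minimalPeriod_eq
  have hbmod : ∀ k, (w ^ (k % s)) y = (w ^ k) y := by
    intro k
    rw [← Perm.iterate_eq_pow, ← Perm.iterate_eq_pow, hsy]
    exact Function.iterate_mod_minimalPeriod_eq
  have ha : ∀ i < s, ∀ j < s, (w ^ i) x = (w ^ j) x → i = j := by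
    intro i hi j hj e
    have e' : w^[i] x = w^[j] x := by rw [Perm.iterate_eq_pow, Perm.iterate_eq_pow]; exact e
    rw [hs] at hi hj
    exact (Function.iterate_eq_iterate_iff_of_lt_minimalPeriod hi hj).1 e'
  have hb : ∀ i < s, ∀ j < s, (w ^ i) y = (w ^ j) y → i = j := by
    intro i hi j hj e
    have e' : w^[i] y = w^[j] y := by rw [Perm.iterate_eq_pow, Perm.iterate_eq_pow]; exact e
    rw [hsy] at hi hj
    exact (Function.iterate_eq_iterate_iff_of_lt_minimalPeriod hi hj).1 e'
  have hab : ∀ i j, (w ^ i) x ≠ (w ^ j) y := by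
    intro i j e
    have hy : (w ^ (s * j)) y = y := by
      rw [← Perm.iterate_eq_pow, hsy]
      exact (Function.isPeriodicPt_minimalPeriod w y).mul_const j
    apply hxy (s * j - j + i)
    rw [pow_add, Perm.mul_apply, e, ← Perm.mul_apply, ← pow_add,
      Nat.sub_add_cancel (Nat.le_mul_of_pos_left j hs1)]
    exact hy
  refine ⟨oddp_prod (fun k => (w ^ k) x) (fun k => (w ^ k) y) s, ?_, ?_⟩
  · rw [oddp_prod_sign _ _ s (fun i _ => hab i i)]
    exact hodd.neg_one_pow
  · have hA : ∀ k, oddp_prod (fun k => (w ^ k) x) (fun k => (w ^ k) y) s ((w ^ k) x) =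
        (w ^ k) y := by
      intro k
      rw [← hamod k, ← hbmod k]
      exact (oddp_prod_apply (fun k => (w ^ k) x) (fun k => (w ^ k) y) s ha hb
        (fun i _ j _ => hab i j) (k % s) (Nat.mod_lt _ hs1)).1
    have hB : ∀ k, oddp_prod (fun k => (w ^ k) x) (fun k => (w ^ k) y) s ((w ^ k) y) =
        (w ^ k) x := by
      intro k
      rw [← hamod k, ← hbmod k]
      exact (oddp_prod_apply (fun k => (w ^ k) x) (fun k => (w ^ k) y) s ha hb
        (fun i _ j _ => hab i j) (k % s) (Nat.mod_lt _ hs1)).2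
    have hfix : ∀ z, (∀ k, z ≠ (w ^ k) x) → (∀ k, z ≠ (w ^ k) y) →
        oddp_prod (fun k => (w ^ k) x) (fun k => (w ^ k) y) s z = z := by
      intro z h1 h2
      exact oddp_prod_fix _ _ s z (fun k _ => ⟨h1 k, h2 k⟩)
    have hstep : ∀ (v : α) (k : ℕ), w ((w ^ k) v) = (w ^ (k + 1)) v := by
      intro v k
      rw [pow_succ', Perm.mul_apply]
    have haper : ∀ k, (w ^ (k + s)) x = (w ^ k) x := by
      intro k
      rw [← hamod (k + s), Nat.add_mod_right, hamod]
    have hbper : ∀ k, (w ^ (k + s)) y = (w ^ k) y := by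
      intro k
      rw [← hbmod (k + s), Nat.add_mod_right, hbmod]
    ext z
    rw [Perm.mul_apply, Perm.mul_apply]
    by_cases h1 : ∃ k, z = (w ^ k) x
    · obtain ⟨k, rfl⟩ := h1
      rw [hstep, hA, hA, hstep]
    by_cases h2 : ∃ k, z = (w ^ k) y
    · obtain ⟨k, rfl⟩ := h2
      rw [hstep, hB, hB, hstep]
    push Not at h1 h2
    have h1' : ∀ k, w z ≠ (w ^ k) x := by
      intro k e
      apply h1 (k + s - 1)
      apply w.injective
      rw [e, hstep, Nat.sub_add_cancel (by omega), haper]
    have h2' : ∀ k, w z ≠ (w ^ k) y := by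
      intro k e
      apply h2 (k + s - 1)
      apply w.injective
      rw [e, hstep, Nat.sub_add_cancel (by omega), hbper]
    rw [hfix z h1 h2, hfix (w z) h1' h2']

end Cfsg.Agent.Lib.Helper31.FP
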