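import Cfsg.Agent.Lib.Helper45.FPDefs

/-! S2276 project (helper45), leaf PRIM: a subgroup of `Perm (ZMod ℓ)` containing the translation
and a 3-cycle with a unit displacement is primitive, hence contains the alternating group. -/

set_option autoImplicit false

namespace Cfsg.Agent.Lib.Helper31.FP

open Equiv Cfsg.Agent.Lib.Helper45.FP
open scoped Pointwise

theorem prim_rot_pow_apply (ℓ : ℕ) (k : ℕ) (x : ZMod ℓ) :
    (rot ℓ ^ k) x = x + (k : ZMod ℓ) := by
  induction k generalizing x with
  | zero => simp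
  | succ k ih =>
    rw [pow_succ, Perm.mul_apply, rot_apply, ih]
    push_cast
    ring

/-- PRIM: a subgroup of `Perm (ZMod ℓ)` containing the translation and a 3-cycle with a unit
displacement contains the alternating group. -/
theorem PRIM (ℓ : ℕ) [NeZero ℓ] (G : Subgroup (Perm (ZMod ℓ))) (hc : rot ℓ ∈ G)
    (θ : Perm (ZMod ℓ)) (hθ : θ ∈ G) (h3 : θ.IsThreeCycle) (x₀ : ZMod ℓ)
    (hunit : IsUnit (θ x₀ - x₀)) : alternatingGroup (ZMod ℓ) ≤ G := by
  classical
  have htrans : MulAction.IsPretransitive ↥G (ZMod ℓ) := by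
    refine ⟨fun x y => ?_⟩
    refine ⟨⟨rot ℓ ^ (y - x).val, Subgroup.pow_mem G hc _⟩, ?_⟩
    show (rot ℓ ^ (y - x).val) x = y
    rw [prim_rot_pow_apply, ZMod.natCast_zmod_val]
    ring
  have hprim : MulAction.IsPreprimitive ↥G (ZMod ℓ) := by
    apply MulAction.IsPreprimitive.of_isTrivialBlock_base x₀
    intro B hx₀ hB
    by_cases hsub : B.Subsingleton
    · exact Or.inl hsub
    right
    obtain ⟨a, ha, hax⟩ : ∃ a ∈ B, a ≠ x₀ := by
      by_contra hcon
      push Not at hcon
      apply hsub
      intro y hy z hz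
      rw [hcon y hy, hcon z hz]
    have hblk := MulAction.isBlock_iff_smul_eq_or_disjoint.1 hB
    have hθB : (⟨θ, hθ⟩ : ↥G) • B = B := by
      rcases hblk ⟨θ, hθ⟩ with h | h
      · exact h
      · exfalso
        have hmem : ∀ y ∈ B, θ y ∈ (⟨θ, hθ⟩ : ↥G) • B := fun y hy => ⟨y, hy, rfl⟩
        have hnot : ∀ y ∈ B, θ y ∉ B := fun y hy hy' =>
          Set.disjoint_left.1 h (hmem y hy) hy'
        have hsupp : ({x₀, a, θ x₀, θ a} : Finset (ZMod ℓ)) ⊆ θ.support := by
          intro y hy
          simp only [Finset.mem_insert, Finset.mem_singleton] at hy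
          rw [Perm.mem_support]
          rcases hy with rfl | rfl | rfl | rfl
          · intro e; exact hnot _ hx₀ (by rw [e]; exact hx₀)
          · intro e; exact hnot _ ha (by rw [e]; exact ha)
          · intro e; exact hnot _ hx₀ (by rw [θ.injective e]; exact hx₀)
          · intro e; exact hnot _ ha (by rw [θ.injective e]; exact ha)
        have hcard : ({x₀, a, θ x₀, θ a} : Finset (ZMod ℓ)).card = 4 := by
          rw [Finset.card_insert_of_notMem, Finset.card_insert_of_notMem,
            Finset.card_insert_of_notMem, Finset.card_singleton]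
          · simp only [Finset.mem_singleton]
            intro e; exact hax (θ.injective e).symm
          · simp only [Finset.mem_insert, Finset.mem_singleton]
            rintro (e | e)
            · exact hnot _ hx₀ (by rw [← e]; exact ha)
            · exact hnot _ ha (by rw [← e]; exact ha)
          · simp only [Finset.mem_insert, Finset.mem_singleton]
            rintro (e | e | e)
            · exact hax e.symm
            · exact hnot _ hx₀ (by rw [← e]; exact hx₀)
            · exact hnot _ ha (by rw [← e]; exact hx₀)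
        have := Finset.card_le_card hsupp
        rw [hcard, h3.card_support] at this
        omega
    have hθx : θ x₀ ∈ B := by
      rw [← hθB]; exact ⟨x₀, hx₀, rfl⟩
    obtain ⟨u, hu⟩ := hunit
    have hcB : (⟨rot ℓ ^ (θ x₀ - x₀).val, Subgroup.pow_mem G hc _⟩ : ↥G) • B = B := by
      rcases hblk ⟨rot ℓ ^ (θ x₀ - x₀).val, Subgroup.pow_mem G hc _⟩ with h | h
      · exact h
      · exfalso
        have h1 : θ x₀ ∈ (⟨rot ℓ ^ (θ x₀ - x₀).val, Subgroup.pow_mem G hc _⟩ : ↥G) • B := by
          refine ⟨x₀, hx₀, ?_⟩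
          show (rot ℓ ^ (θ x₀ - x₀).val) x₀ = θ x₀
          rw [prim_rot_pow_apply, ZMod.natCast_zmod_val]
          ring
        exact Set.disjoint_left.1 h h1 hθx
    have hadd : ∀ y ∈ B, y + (θ x₀ - x₀) ∈ B := by
      intro y hy
      have h1 : (rot ℓ ^ (θ x₀ - x₀).val) y ∈
          (⟨rot ℓ ^ (θ x₀ - x₀).val, Subgroup.pow_mem G hc _⟩ : ↥G) • B := ⟨y, hy, rfl⟩
      rw [hcB, prim_rot_pow_apply, ZMod.natCast_zmod_val] at h1
      exact h1
    have hall : ∀ j : ℕ, x₀ + (j : ZMod ℓ) * (θ x₀ - x₀) ∈ B := by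
      intro j
      induction j with
      | zero => simpa using hx₀
      | succ j ih =>
        have h1 := hadd _ ih
        have e : x₀ + ((j + 1 : ℕ) : ZMod ℓ) * (θ x₀ - x₀) =
            x₀ + (j : ZMod ℓ) * (θ x₀ - x₀) + (θ x₀ - x₀) := by
          push_cast; ring
        rw [e]; exact h1
    apply Set.eq_univ_of_forall
    intro z
    have h1 := hall ((z - x₀) * ((u⁻¹ : (ZMod ℓ)ˣ) : ZMod ℓ)).val
    rw [ZMod.natCast_zmod_val, ← hu, mul_assoc, Units.inv_mul, mul_one] at h1
    have e : x₀ + (z - x₀) = z := by ring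
    rw [e] at h1
    exact h1
  exact Equiv.Perm.alternatingGroup_le_of_isPreprimitive_of_isThreeCycle_mem hprim h3 hθ

end Cfsg.Agent.Lib.Helper31.FP
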