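import Cfsg.Agent.Lib.Helper45.FPDefs

/-! S2276 project (helper45), leaf SPO: two permutations whose supports meet in exactly one
point have a 3-cycle as commutator. -/

set_option autoImplicit false

namespace Cfsg.Agent.Lib.Helper31.FP

open Equiv Cfsg.Agent.Lib.Helper45.FP

/-- SPO: two permutations whose supports meet in exactly one point `x`. -/
theorem SPO {α : Type*} [DecidableEq α] [Fintype α] (σ τ : Perm α) (x : α)
    (hσ : σ x ≠ x) (hτ : τ x ≠ x) (h : ∀ y, σ y ≠ y → τ y ≠ y → y = x) :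
    (σ * τ * σ⁻¹ * τ⁻¹).IsThreeCycle ∧ (σ * τ * σ⁻¹ * τ⁻¹) x = σ x := by
  have F1 : ∀ y, σ y ≠ y → y ≠ x → τ y = y := fun y h1 h2 => by
    by_contra h3; exact h2 (h y h1 h3)
  have F2 : ∀ y, τ y ≠ y → y ≠ x → σ y = y := fun y h1 h2 => by
    by_contra h3; exact h2 (h y h3 h1)
  have ais : ∀ (ρ : Perm α) (y : α), ρ (ρ⁻¹ y) = y := fun ρ y => ρ.apply_symm_apply y
  have ias : ∀ (ρ : Perm α) (y : α), ρ⁻¹ (ρ y) = y := fun ρ y => ρ.symm_apply_apply y
  have inv_fix : ∀ (ρ : Perm α) (y : α), ρ y = y → ρ⁻¹ y = y := fun ρ y hy => by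
    rw [Perm.inv_eq_iff_eq]; exact hy.symm
  have hσa : σ (σ x) ≠ σ x := fun h1 => hσ (σ.injective h1)
  have hτb : τ (τ x) ≠ τ x := fun h1 => hτ (τ.injective h1)
  have hτa : τ (σ x) = σ x := F1 _ hσa hσ
  have hσb : σ (τ x) = τ x := F2 _ hτb hτ
  have hab : σ x ≠ τ x := by
    intro e
    have : τ (σ x) ≠ σ x := by rw [e]; exact hτb
    exact this hτa
  have hc0 : σ⁻¹ x ≠ x := fun e => hσ (by rw [Perm.inv_eq_iff_eq] at e; exact e.symm)
  have hc1 : σ (σ⁻¹ x) ≠ σ⁻¹ x := by rw [ais]; exact hc0.symm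
  have hτc : τ (σ⁻¹ x) = σ⁻¹ x := F1 _ hc1 hc0
  have hd0 : τ⁻¹ x ≠ x := fun e => hτ (by rw [Perm.inv_eq_iff_eq] at e; exact e.symm)
  have hd1 : τ (τ⁻¹ x) ≠ τ⁻¹ x := by rw [ais]; exact hd0.symm
  have hσd : σ (τ⁻¹ x) = τ⁻¹ x := F2 _ hd1 hd0
  have hx : (σ * τ * σ⁻¹ * τ⁻¹) x = σ x := by
    simp only [Perm.mul_apply]
    rw [inv_fix σ _ hσd, ais]
  have key : σ * τ * σ⁻¹ * τ⁻¹ = swap (σ x) x * swap (σ x) (τ x) := by
    ext y
    by_cases hyx : y = x
    · subst hyx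
      rw [hx, Perm.mul_apply, swap_apply_of_ne_of_ne hσ.symm hτ.symm, swap_apply_right]
    by_cases hya : y = σ x
    · subst hya
      simp only [Perm.mul_apply]
      rw [inv_fix τ _ hτa, ias, hσb, swap_apply_left,
        swap_apply_of_ne_of_ne hab.symm hτ]
    by_cases hyb : y = τ x
    · subst hyb
      simp only [Perm.mul_apply]
      rw [ias, hτc, ais, swap_apply_right, swap_apply_left]
    rw [Perm.mul_apply (swap _ _), swap_apply_of_ne_of_ne hya hyb,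
      swap_apply_of_ne_of_ne hya hyx]
    simp only [Perm.mul_apply]
    by_cases hσy : σ y = y
    · by_cases hτy : τ y = y
      · rw [inv_fix τ y hτy, inv_fix σ y hσy, hτy, hσy]
      · have h20 : τ⁻¹ y ≠ x := fun e => hyb (by rw [Perm.inv_eq_iff_eq] at e; exact e)
        have h21 : τ (τ⁻¹ y) ≠ τ⁻¹ y := by
          rw [ais]
          intro e
          apply hτy
          rw [Perm.eq_inv_iff_eq] at e
          exact e
        have h22 : σ (τ⁻¹ y) = τ⁻¹ y := F2 _ h21 h20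
        rw [inv_fix σ _ h22, ais, hσy]
    · have hτy : τ y = y := F1 y hσy hyx
      have h10 : σ⁻¹ y ≠ x := fun e => hya (by rw [Perm.inv_eq_iff_eq] at e; exact e)
      have h11 : σ (σ⁻¹ y) ≠ σ⁻¹ y := by
        rw [ais]
        intro e
        apply hσy
        rw [Perm.eq_inv_iff_eq] at e
        exact e
      have h12 : τ (σ⁻¹ y) = σ⁻¹ y := F1 _ h11 h10
      rw [inv_fix τ y hτy, h12, ais]
  refine ⟨?_, hx⟩
  rw [key]
  exact Perm.isThreeCycle_swap_mul_swap_same hσ hab hτ.symm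

end Cfsg.Agent.Lib.Helper31.FP
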