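import Cfsg.Agent.Lib.Helper45.FPDefs

/-! S2276 project (helper45), leaf T1O: `v = swap 1 2 * c * swap 1 2` on `ZMod ℓ`. -/

set_option autoImplicit false
set_option linter.unusedVariables false

namespace Cfsg.Agent.Lib.Helper31.FP

open Equiv Cfsg.Agent.Lib.Helper45.FP

/-- T1O -/
theorem T1O (ℓ : ℕ) [NeZero ℓ] (hodd : Odd ℓ) (h5 : 5 ≤ ℓ) :
    (rot ℓ * (swap (1 : ZMod ℓ) 2 * rot ℓ * swap (1 : ZMod ℓ) 2)) 2 = 2 ∧
    (∀ x : ZMod ℓ, (rot ℓ * (swap (1 : ZMod ℓ) 2 * rot ℓ * swap (1 : ZMod ℓ) 2)) x = x → x = 2) ∧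
    ((rot ℓ)⁻¹ * (swap (1 : ZMod ℓ) 2 * rot ℓ * swap (1 : ZMod ℓ) 2)).IsThreeCycle ∧
    ((rot ℓ)⁻¹ * (swap (1 : ZMod ℓ) 2 * rot ℓ * swap (1 : ZMod ℓ) 2)) 0 = 1 := by
  have hne : ∀ a b : ℕ, a < ℓ → b < ℓ → a ≠ b → ((a : ℕ) : ZMod ℓ) ≠ ((b : ℕ) : ZMod ℓ) := by
    intro a b ha hb hab e
    have := (ZMod.natCast_eq_natCast_iff' a b ℓ).1 e
    rw [Nat.mod_eq_of_lt ha, Nat.mod_eq_of_lt hb] at this
    exact hab this
  have e01 : (0 : ZMod ℓ) ≠ 1 := by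
    have := hne 0 1 (by omega) (by omega) (by norm_num); exact_mod_cast this
  have e02 : (0 : ZMod ℓ) ≠ 2 := by
    have := hne 0 2 (by omega) (by omega) (by norm_num); exact_mod_cast this
  have e12 : (1 : ZMod ℓ) ≠ 2 := by
    have := hne 1 2 (by omega) (by omega) (by norm_num); exact_mod_cast this
  have e30 : (3 : ZMod ℓ) ≠ 0 := by
    have := hne 3 0 (by omega) (by omega) (by norm_num); exact_mod_cast this
  have e31 : (3 : ZMod ℓ) ≠ 1 := by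
    have := hne 3 1 (by omega) (by omega) (by norm_num); exact_mod_cast this
  have e32 : (3 : ZMod ℓ) ≠ 2 := by
    have := hne 3 2 (by omega) (by omega) (by norm_num); exact_mod_cast this
  have a01 : (0 : ZMod ℓ) + 1 = 1 := zero_add 1
  have a12 : (1 : ZMod ℓ) + 1 = 2 := one_add_one_eq_two
  have a23 : (2 : ZMod ℓ) + 1 = 3 := by norm_num
  have hv : ∀ x, (swap (1 : ZMod ℓ) 2 * rot ℓ * swap (1 : ZMod ℓ) 2) x =
      swap (1 : ZMod ℓ) 2 (swap (1 : ZMod ℓ) 2 x + 1) := fun x => by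
    simp only [Perm.mul_apply, rot_apply]
  have hv0 : (swap (1 : ZMod ℓ) 2 * rot ℓ * swap (1 : ZMod ℓ) 2) 0 = 2 := by
    rw [hv, swap_apply_of_ne_of_ne e01 e02, a01, swap_apply_left]
  have hv1 : (swap (1 : ZMod ℓ) 2 * rot ℓ * swap (1 : ZMod ℓ) 2) 1 = 3 := by
    rw [hv, swap_apply_left, a23, swap_apply_of_ne_of_ne e31 e32]
  have hv2 : (swap (1 : ZMod ℓ) 2 * rot ℓ * swap (1 : ZMod ℓ) 2) 2 = 1 := by
    rw [hv, swap_apply_right, a12, swap_apply_right]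
  have hvx : ∀ x : ZMod ℓ, x ≠ 0 → x ≠ 1 → x ≠ 2 →
      (swap (1 : ZMod ℓ) 2 * rot ℓ * swap (1 : ZMod ℓ) 2) x = x + 1 := by
    intro x h0 h1 h2
    have h3 : x + 1 ≠ 1 := fun e => h0 (by simpa using e)
    have h4 : x + 1 ≠ 2 := fun e => h1 (by
      have : x + 1 = 1 + 1 := by rw [e, a12]
      exact add_right_cancel this)
    rw [hv, swap_apply_of_ne_of_ne h1 h2, swap_apply_of_ne_of_ne h3 h4]
  have hcv : ∀ x, (rot ℓ * (swap (1 : ZMod ℓ) 2 * rot ℓ * swap (1 : ZMod ℓ) 2)) x =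
      (swap (1 : ZMod ℓ) 2 * rot ℓ * swap (1 : ZMod ℓ) 2) x + 1 := fun x => by
    rw [Perm.mul_apply, rot_apply]
  have key : swap (1 : ZMod ℓ) 2 * rot ℓ * swap (1 : ZMod ℓ) 2 =
      rot ℓ * (swap (1 : ZMod ℓ) 0 * swap (1 : ZMod ℓ) 2) := by
    ext x
    rw [Perm.mul_apply (rot ℓ), rot_apply, Perm.mul_apply (swap (1 : ZMod ℓ) 0)]
    by_cases h0 : x = 0
    · subst h0
      rw [hv0, swap_apply_of_ne_of_ne e01 e02, swap_apply_right, a12]
    by_cases h1 : x = 1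
    · subst h1
      rw [hv1, swap_apply_left, swap_apply_of_ne_of_ne e12.symm e02.symm, a23]
    by_cases h2 : x = 2
    · subst h2
      rw [hv2, swap_apply_right, swap_apply_left, a01]
    rw [hvx x h0 h1 h2, swap_apply_of_ne_of_ne h1 h2, swap_apply_of_ne_of_ne h1 h0]
  have key' : (rot ℓ)⁻¹ * (swap (1 : ZMod ℓ) 2 * rot ℓ * swap (1 : ZMod ℓ) 2) =
      swap (1 : ZMod ℓ) 0 * swap (1 : ZMod ℓ) 2 := by
    rw [key, inv_mul_cancel_left]
  refine ⟨?_, ?_, ?_, ?_⟩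
  · rw [hcv, hv2, a12]
  · intro x hx
    rw [hcv] at hx
    by_contra h2
    by_cases h0 : x = 0
    · subst h0
      rw [hv0, a23] at hx
      exact e30 hx
    by_cases h1 : x = 1
    · subst h1
      rw [hv1] at hx
      exact e30 (by simpa using hx)
    rw [hvx x h0 h1 h2, add_assoc, a12] at hx
    have h20 : (2 : ZMod ℓ) = 0 := by simpa using hx
    exact e02 h20.symm
  · rw [key']
    exact Perm.isThreeCycle_swap_mul_swap_same e01.symm e12 e02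
  · rw [key', Perm.mul_apply, swap_apply_of_ne_of_ne e01 e02, swap_apply_right]

end Cfsg.Agent.Lib.Helper31.FP
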