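import Mathlib
import Cfsg.Agent.Lib.Helper92.FT12Defs

/-!
# S1421 (B&G Theorem 12.12, helper92's project): piece NSYL-PURE

Pure finite group theory: if `[E,E]` is abelian and a Sylow `p`-subgroup `P` of `E` centralizes
all `r`-elements (`r ≠ p`) of `[E,E]`, then `P` is normal in `E`.
-/

set_option autoImplicit false

namespace Cfsg.Agent.Lib.Helper31.FT12

open Cfsg Cfsg.Agent.Lib.Helper92.FT
open scoped commutatorElement

universe u

/-- Bezout decomposition of an element along a coprime factorization of an exponent -/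
theorem nsylPure_aux_bez {G : Type u} [Group G] (c : G) (a b : ℕ) (hab : Nat.Coprime a b) :
    c = (c ^ a) ^ (a.gcdA b) * (c ^ b) ^ (a.gcdB b) := by
  have hbez := Nat.gcd_eq_gcd_ab a b
  rw [Nat.Coprime.gcd_eq_one hab] at hbez
  rw [← zpow_natCast c a, ← zpow_natCast c b, ← zpow_mul, ← zpow_mul, ← zpow_add, ← hbez]
  simp

/-- elements of `p'`-order of `D` centralize `P` -/
theorem nsylPure_aux_reg {G : Type u} [Group G] [Finite G] (p : ℕ)
    (D P : Subgroup G)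
    (hcent : ∀ x ∈ P, ∀ t ∈ D, ∀ r : ℕ, r.Prime → r ≠ p → PElt r t → x * t = t * x) :
    ∀ n : ℕ, ∀ c ∈ D, orderOf c = n → ¬ p ∣ n → ∀ x ∈ P, x * c = c * x := by
  intro n
  induction n using Nat.strong_induction_on with
  | _ n ih =>
    intro c hc hn hpn x hx
    by_cases h1 : n = 1
    · rw [h1] at hn
      rw [orderOf_eq_one_iff.mp hn, mul_one, one_mul]
    · have hn0 : n ≠ 0 := by rw [← hn]; exact (orderOf_pos c).ne'
      have hrp : (n.minFac).Prime := Nat.minFac_prime h1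
      have hrn : n.minFac ∣ n := Nat.minFac_dvd n
      have hrne : n.minFac ≠ p := fun h => hpn (h ▸ hrn)
      obtain ⟨k, m, hm, hnk⟩ := Nat.exists_eq_pow_mul_and_not_dvd hn0 n.minFac hrp.ne_one
      generalize n.minFac = r at hrp hrn hrne hm hnk
      have hk : k ≠ 0 := by
        rintro rfl
        rw [pow_zero, one_mul] at hnk
        exact hm (hnk ▸ hrn)
      have hm0 : m ≠ 0 := by
        rintro rfl
        rw [mul_zero] at hnk
        exact hn0 hnk
      have hrk0 : r ^ k ≠ 0 := pow_ne_zero _ hrp.ne_zero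
      have ho1 : orderOf (c ^ m) = r ^ k := by
        rw [orderOf_pow_of_dvd hm0 (by rw [hn, hnk]; exact dvd_mul_left _ _), hn, hnk]
        exact Nat.mul_div_cancel _ (Nat.pos_of_ne_zero hm0)
      have ho2 : orderOf (c ^ r ^ k) = m := by
        rw [orderOf_pow_of_dvd hrk0 (by rw [hn, hnk]; exact dvd_mul_right _ _), hn, hnk]
        exact Nat.mul_div_cancel_left _ (Nat.pos_of_ne_zero hrk0)
      have hc1 : x * c ^ m = c ^ m * x :=
        hcent x hx (c ^ m) (D.pow_mem hc m) r hrp hrne ⟨k, ho1⟩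
      have hmlt : m < n := by
        have h2 : 2 ≤ r ^ k := by
          calc 2 ≤ r := hrp.two_le
            _ = r ^ 1 := (pow_one r).symm
            _ ≤ r ^ k := Nat.pow_le_pow_right hrp.pos (Nat.pos_of_ne_zero hk)
        have h3 : 0 < m := Nat.pos_of_ne_zero hm0
        rw [hnk]
        nlinarith
      have hpm : ¬ p ∣ m := fun h => hpn (hnk ▸ Dvd.dvd.mul_left h _)
      have hc2 : x * c ^ r ^ k = c ^ r ^ k * x :=
        ih m hmlt (c ^ r ^ k) (D.pow_mem hc _) ho2 hpm x hx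
      have hcop : Nat.Coprime (r ^ k) m :=
        Nat.Coprime.pow_left k ((Nat.Prime.coprime_iff_not_dvd hrp).mpr hm)
      have hcdec := nsylPure_aux_bez c (r ^ k) m hcop
      have h2 : Commute x ((c ^ r ^ k) ^ ((r ^ k).gcdA m) * (c ^ m) ^ ((r ^ k).gcdB m)) :=
        (Commute.zpow_right hc2 _).mul_right (Commute.zpow_right hc1 _)
      rw [← hcdec] at h2
      exact h2

/-- the `p`-elements of the abelian subgroup `D` normalized by `E` lie in the Sylow `p`-subgroup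
`P` of `E` -/
theorem nsylPure_aux_pel {G : Type u} [Group G] [Finite G] (p : ℕ) [Fact p.Prime]
    (E P D : Subgroup G) (hP : SylIn p P E) (hDE : D ≤ E)
    (hnorm : ∀ g ∈ E, ∀ d ∈ D, g * d * g⁻¹ ∈ D)
    (hab : ∀ a ∈ D, ∀ b ∈ D, a * b = b * a) :
    ∀ y ∈ D, (∃ a : ℕ, y ^ p ^ a = 1) → y ∈ P := by
  have hp : p.Prime := Fact.out
  obtain ⟨hPE, hPp, hidx⟩ := hP
  let Dp : Subgroup G :=
    { carrier := {y | y ∈ D ∧ ∃ a : ℕ, y ^ p ^ a = 1}
      mul_mem' := by
        rintro y y' ⟨hy, a, ha⟩ ⟨hy', a', ha'⟩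
        refine ⟨D.mul_mem hy hy', a + a', ?_⟩
        have hc : Commute y y' := hab y hy y' hy'
        rw [hc.mul_pow, pow_add, pow_mul, ha, one_pow, mul_comm (p ^ a) (p ^ a'), pow_mul, ha',
          one_pow, mul_one]
      one_mem' := ⟨D.one_mem, 0, one_pow _⟩
      inv_mem' := by
        rintro y ⟨hy, a, ha⟩
        exact ⟨D.inv_mem hy, a, by rw [inv_pow, ha, inv_one]⟩ }
  have hDp : IsPGroup p Dp := by
    rintro ⟨y, hy, a, ha⟩
    exact ⟨a, Subtype.ext ha⟩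
  have hconj : ∀ x ∈ E, ∀ y ∈ Dp, x * y * x⁻¹ ∈ Dp := by
    rintro x hx y ⟨hy, a, ha⟩
    refine ⟨hnorm x hx y hy, a, ?_⟩
    rw [conj_pow, ha, mul_one, mul_inv_cancel]
  have hPN : P ≤ Subgroup.normalizer (Dp : Set G) := by
    intro x hx
    rw [Subgroup.mem_normalizer_iff]
    intro y
    constructor
    · exact hconj x (hPE hx) y
    · intro h
      have h2 := hconj x⁻¹ (E.inv_mem (hPE hx)) _ h
      simpa [mul_assoc] using h2
  have hT : IsPGroup p (P ⊔ Dp : Subgroup G) := IsPGroup.to_sup_of_normal_right' hPp hDp hPN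
  have hDpE : Dp ≤ E := fun y hy => hDE hy.1
  have hTE : P ⊔ Dp ≤ E := sup_le hPE hDpE
  have hPT : P ≤ P ⊔ Dp := le_sup_left
  have hmul := Subgroup.relIndex_mul_relIndex P (P ⊔ Dp) E hPT hTE
  have hdvd : P.relIndex (P ⊔ Dp) ∣ Nat.card (P ⊔ Dp : Subgroup G) := Subgroup.relIndex_dvd_card _ _
  obtain ⟨j, hj⟩ := IsPGroup.iff_card.mp hT
  rw [hj] at hdvd
  obtain ⟨i, -, hi⟩ := (Nat.dvd_prime_pow hp).mp hdvd
  have hi0 : i = 0 := by
    by_contra h0
    apply hidx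
    rw [← hmul, hi]
    exact Dvd.dvd.mul_right (dvd_pow_self p h0) _
  rw [hi0, pow_zero, Subgroup.relIndex_eq_one] at hi
  intro y hy ha
  exact hi (le_sup_right (a := P) ⟨hy, ha⟩)

theorem nsylPure : NSylPureStmt.{u} := by
  intro G _ _ p _ E P hP hab hcent
  have hp : p.Prime := Fact.out
  have hDE : ⁅E, E⁆ ≤ E := by
    rw [Subgroup.commutator_le]
    intro g₁ h₁ g₂ h₂
    rw [commutatorElement_def]
    exact E.mul_mem (E.mul_mem (E.mul_mem h₁ h₂) (E.inv_mem h₁)) (E.inv_mem h₂)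
  have hnorm : ∀ g ∈ E, ∀ d ∈ ⁅E, E⁆, g * d * g⁻¹ ∈ ⁅E, E⁆ := by
    intro g hg d hd
    have h1 : ⁅g, d⁆ ∈ ⁅E, E⁆ := Subgroup.commutator_mem_commutator hg (hDE hd)
    have h2 : g * d * g⁻¹ = ⁅g, d⁆ * d := by rw [commutatorElement_def]; group
    rw [h2]
    exact Subgroup.mul_mem _ h1 hd
  have hreg := nsylPure_aux_reg p ⁅E, E⁆ P hcent
  have hpel := nsylPure_aux_pel p E P ⁅E, E⁆ hP hDE hnorm hab
  obtain ⟨hPE, hPp, hidx⟩ := hP
  have main : ∀ g ∈ E, ∀ x ∈ P, g * x * g⁻¹ ∈ P := by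
    intro g hg x hx
    have hd : g * x * g⁻¹ * x⁻¹ ∈ ⁅E, E⁆ := by
      have h1 : ⁅g, x⁆ ∈ ⁅E, E⁆ := Subgroup.commutator_mem_commutator hg (hPE hx)
      rwa [commutatorElement_def] at h1
    generalize hdd : g * x * g⁻¹ * x⁻¹ = d at hd
    have hn0 : orderOf d ≠ 0 := (orderOf_pos d).ne'
    obtain ⟨a, m, hm, hnk⟩ := Nat.exists_eq_pow_mul_and_not_dvd hn0 p hp.ne_one
    have hcop : Nat.Coprime (p ^ a) m :=
      Nat.Coprime.pow_left a ((Nat.Prime.coprime_iff_not_dvd hp).mpr hm)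
    have hcdec := nsylPure_aux_bez d (p ^ a) m hcop
    -- the `p'`-part
    have hc1 : (d ^ p ^ a) ^ m = 1 := by
      rw [← pow_mul, ← hnk, pow_orderOf_eq_one]
    have hcm : ((d ^ p ^ a) ^ ((p ^ a).gcdA m)) ^ m = 1 := by
      rw [← zpow_natCast, ← zpow_mul, mul_comm, zpow_mul, zpow_natCast, hc1, one_zpow]
    have hcD : (d ^ p ^ a) ^ ((p ^ a).gcdA m) ∈ ⁅E, E⁆ :=
      Subgroup.zpow_mem _ (Subgroup.pow_mem _ hd _) _
    have hcP : ∀ u ∈ P, u * (d ^ p ^ a) ^ ((p ^ a).gcdA m) = (d ^ p ^ a) ^ ((p ^ a).gcdA m) * u := by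
      intro u hu
      refine hreg _ _ hcD rfl ?_ u hu
      intro hpd
      have h1 : orderOf ((d ^ p ^ a) ^ ((p ^ a).gcdA m)) ∣ m := orderOf_dvd_of_pow_eq_one hcm
      exact hm (hpd.trans h1)
    -- the `p`-part
    have hy1 : (d ^ m) ^ p ^ a = 1 := by
      rw [← pow_mul, mul_comm, ← hnk, pow_orderOf_eq_one]
    have hyP : (d ^ m) ^ ((p ^ a).gcdB m) ∈ P :=
      Subgroup.zpow_mem _ (hpel _ (Subgroup.pow_mem _ hd _) ⟨a, hy1⟩) _
    generalize (d ^ p ^ a) ^ ((p ^ a).gcdA m) = c at hcdec hcm hcP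
    generalize (d ^ m) ^ ((p ^ a).gcdB m) = y at hcdec hyP
    have hw : g * x * g⁻¹ = c * (y * x) := by
      have : g * x * g⁻¹ = d * x := by rw [← hdd]; group
      rw [this, hcdec, mul_assoc]
    have huP : y * x ∈ P := P.mul_mem hyP hx
    obtain ⟨i, hi⟩ := hPp ⟨y * x, huP⟩
    obtain ⟨j, hj⟩ := hPp ⟨x, hx⟩
    have hi' : (y * x) ^ p ^ i = 1 := congrArg Subtype.val hi
    have hj' : x ^ p ^ j = 1 := congrArg Subtype.val hj
    have hwj : (g * x * g⁻¹) ^ p ^ (i + j) = 1 := by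
      rw [conj_pow, pow_add, mul_comm (p ^ i) (p ^ j), pow_mul, hj', one_pow, mul_one,
        mul_inv_cancel]
    have hcomm : Commute c (y * x) := (hcP (y * x) huP).symm
    rw [hw, hcomm.mul_pow, pow_add (p) i j, pow_mul (y * x), hi', one_pow, mul_one] at hwj
    have h1 : orderOf c ∣ m := orderOf_dvd_of_pow_eq_one hcm
    have h2 : orderOf c ∣ p ^ i * p ^ j := orderOf_dvd_of_pow_eq_one hwj
    have hcop2 : Nat.Coprime m (p ^ i * p ^ j) := by
      rw [← pow_add]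
      exact (Nat.Coprime.pow_left (i + j) ((Nat.Prime.coprime_iff_not_dvd hp).mpr hm)).symm
    have h3 : orderOf c = 1 := Nat.eq_one_of_dvd_coprimes hcop2 h1 h2
    rw [hw, orderOf_eq_one_iff.mp h3, one_mul]
    exact huP
  intro g hg
  rw [Subgroup.mem_normalizer_iff]
  intro h
  constructor
  · exact main g hg h
  · intro hh
    have h2 := main g⁻¹ (E.inv_mem hg) _ hh
    simpa [mul_assoc] using h2

end Cfsg.Agent.Lib.Helper31.FT12
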