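import Mathlib
import Cfsg.Agent.Lib.Helper92.FT12Defs
import Cfsg.Agent.Lib.Helper15.BG12Asm
import Cfsg.Agent.Lib.Helper3.BG12f
import Cfsg.Agent.Lib.Helper3.BG12b
import Cfsg.Agent.Lib.Helper3.U95F
import Cfsg.Agent.S1416
import Cfsg.Agent.S1417

/-!
# S1421 (B&G Theorem 12.12, helper92's project): piece NONAB

The nonabelian Sylow case.  With `A₀ = A ∩ C(M_σ)`: the `p`-elements of `E` with a fixed point on
`M_σ` lie in `A₀`, and `A₀` has a complement in every Sylow `p`-subgroup `P` of `E` containing an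
element of maximal order of `P`.
-/

set_option autoImplicit false

open Cfsg Cfsg.Agent.Lib.Helper92.FT Cfsg.Agent.Lib.Helper32 Cfsg.Agent.Lib.Helper32.BG10
  Cfsg.Agent.Lib.Helper3.BG12 Cfsg.Agent.Lib.Helper15.BG12

namespace Cfsg.Agent.Lib.Helper31.FT12

universe u

/-- Bezout for an integer exponent prime to `p` -/
theorem nonab_aux_bez {Q : Type*} [Group Q] (p : ℕ) (hp : p.Prime) (y : Q) (i : ℤ)
    (hi : ¬ (p : ℤ) ∣ i) : ∃ u v : ℤ, y = (y ^ p) ^ u * (y ^ i) ^ v := by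
  have hc : IsCoprime (p : ℤ) i :=
    (Nat.prime_iff_prime_int.mp hp).irreducible.coprime_iff_not_dvd.mpr hi
  obtain ⟨u, v, huv⟩ := hc
  refine ⟨u, v, ?_⟩
  rw [← zpow_natCast y p, ← zpow_mul, ← zpow_mul, ← zpow_add, mul_comm (p : ℤ) u, mul_comm i v,
    huv, zpow_one]

/-- orders of `p`-power powers of a `p`-element -/
theorem nonab_aux_ord {G : Type*} [Group G] (p : ℕ) (hp : p.Prime) (e : G) (k j : ℕ)
    (hk : orderOf e = p ^ k) (hj : j ≤ k) : orderOf (e ^ p ^ j) = p ^ (k - j) := by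
  rw [orderOf_pow_of_dvd (pow_ne_zero _ hp.ne_zero) (by rw [hk]; exact pow_dvd_pow p hj), hk,
    Nat.pow_div hj hp.pos]

/-- In a finite commutative `p`-group, a subgroup `⟨a⟩` of order `p` meeting the `p`-th powers
trivially has a complement, which contains an element of maximal order. -/
theorem nonab_aux_compl {Q : Type*} [Group Q] [Finite Q] (hcomm : ∀ a b : Q, a * b = b * a)
    (p : ℕ) [Fact p.Prime] (a : Q) (ha : orderOf a = p)
    (hstar : ∀ v : Q, v ^ p ∈ Subgroup.zpowers a → v ^ p = 1)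
    (hb : ∃ b : Q, b ∉ Subgroup.zpowers a) (hQ : ∀ x : Q, ∃ k : ℕ, orderOf x = p ^ k) :
    ∃ C : Subgroup Q, Subgroup.zpowers a ⊓ C = ⊥ ∧ Subgroup.zpowers a ⊔ C = ⊤ ∧
      ∃ c ∈ C, ∀ x : Q, orderOf x ∣ orderOf c := by
  have hp : p.Prime := Fact.out
  have hnormal : ∀ H : Subgroup Q, H.Normal := fun H =>
    ⟨fun n hn g => by rw [hcomm g n, mul_inv_cancel_right]; exact hn⟩
  have ha1 : a ≠ 1 := by
    rintro rfl
    rw [orderOf_one] at ha
    exact hp.ne_one ha.symm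
  have hap : a ^ p = 1 := by
    have := pow_orderOf_eq_one a
    rwa [ha] at this
  -- the subgroup of `p`-th powers
  let Φ : Subgroup Q :=
    { carrier := {g | ∃ v : Q, v ^ p = g}
      mul_mem' := by
        rintro _ _ ⟨v, rfl⟩ ⟨v', rfl⟩
        exact ⟨v * v', (show Commute v v' from hcomm v v').mul_pow p⟩
      one_mem' := ⟨1, one_pow p⟩
      inv_mem' := by
        rintro _ ⟨v, rfl⟩
        exact ⟨v⁻¹, inv_pow v p⟩ }
  have hΦmem : ∀ v : Q, v ^ p ∈ Φ := fun v => ⟨v, rfl⟩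
  have haΦ : a ∉ Φ := by
    rintro ⟨v, hv⟩
    have := hstar v (by rw [hv]; exact Subgroup.mem_zpowers a)
    exact ha1 (hv.symm.trans this)
  obtain ⟨C, ⟨hΦC, haC⟩, hmax⟩ := Set.Finite.exists_maximal
    (s := {C : Subgroup Q | Φ ≤ C ∧ a ∉ C}) (Set.toFinite _) ⟨Φ, le_rfl, haΦ⟩
  have hinf : Subgroup.zpowers a ⊓ C = ⊥ := by
    rw [eq_bot_iff]
    rintro g ⟨hg1, hg2⟩
    obtain ⟨i, rfl⟩ := Subgroup.mem_zpowers_iff.mp hg1
    rw [Subgroup.mem_bot]
    by_cases hi : (p : ℤ) ∣ i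
    · obtain ⟨j, rfl⟩ := hi
      rw [zpow_mul, zpow_natCast, hap, one_zpow]
    · exfalso
      obtain ⟨u, v, huv⟩ := nonab_aux_bez p hp a i hi
      rw [hap, one_zpow, one_mul] at huv
      have h5 : (a ^ i) ^ v ∈ C := C.zpow_mem hg2 v
      rw [← huv] at h5
      exact haC h5
  have hsup : ∀ y : Q, y ∈ Subgroup.zpowers a ⊔ C := by
    intro y
    by_cases hy : y ∈ C
    · exact (le_sup_right : C ≤ _) hy
    · have h1 : a ∈ C ⊔ Subgroup.zpowers y := by
        by_contra hna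
        have h5 := hmax (show C ⊔ Subgroup.zpowers y ∈ {C : Subgroup Q | Φ ≤ C ∧ a ∉ C} from
          ⟨hΦC.trans le_sup_left, hna⟩) le_sup_left
        exact hy (h5 ((le_sup_right : Subgroup.zpowers y ≤ C ⊔ Subgroup.zpowers y)
          (Subgroup.mem_zpowers y)))
      have := hnormal (Subgroup.zpowers y)
      obtain ⟨c, hc, z, hz, hcz⟩ := Subgroup.mem_sup_of_normal_right.mp h1
      obtain ⟨i, rfl⟩ := Subgroup.mem_zpowers_iff.mp hz
      have hi : ¬ (p : ℤ) ∣ i := by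
        rintro ⟨j, rfl⟩
        apply haC
        rw [← hcz]
        refine C.mul_mem hc (hΦC ?_)
        rw [zpow_mul, zpow_natCast]
        exact Φ.zpow_mem (hΦmem y) j
      obtain ⟨u, v, huv⟩ := nonab_aux_bez p hp y i hi
      rw [huv]
      have h6 : y ^ i = a * c⁻¹ := by
        rw [← hcz, hcomm c (y ^ i), mul_inv_cancel_right]
      refine Subgroup.mul_mem _
        (Subgroup.zpow_mem _ ((le_sup_right : C ≤ _) (hΦC (hΦmem y))) u)
        (Subgroup.zpow_mem _ ?_ v)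
      rw [h6]
      exact Subgroup.mul_mem _
        ((le_sup_left : Subgroup.zpowers a ≤ _) (Subgroup.mem_zpowers a))
        ((le_sup_right : C ≤ _) (C.inv_mem hc))
  refine ⟨C, hinf, ?_, ?_⟩
  · rw [eq_top_iff]
    intro y _
    exact hsup y
  · -- an element of maximal order
    obtain ⟨c₀, hc₀⟩ : ∃ c₀ : Q, ∀ x : Q, orderOf x ≤ orderOf c₀ := by
      obtain ⟨c₀, hc₀⟩ := Finite.exists_max (fun x : Q => orderOf x)
      exact ⟨c₀, hc₀⟩
    have hall : ∀ x : Q, orderOf x ∣ orderOf c₀ := by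
      intro x
      obtain ⟨k, hk⟩ := hQ x
      obtain ⟨m, hm⟩ := hQ c₀
      have h5 := hc₀ x
      rw [hk, hm] at h5 ⊢
      exact pow_dvd_pow p ((Nat.pow_le_pow_iff_right hp.one_lt).mp h5)
    have := hnormal C
    by_cases hcp : c₀ ^ p = 1
    · obtain ⟨b, hb⟩ := hb
      obtain ⟨z, hz, c, hc, hzc⟩ := Subgroup.mem_sup_of_normal_right.mp (hsup b)
      have hc1 : c ≠ 1 := by
        rintro rfl
        rw [mul_one] at hzc
        exact hb (hzc ▸ hz)
      have h1 : orderOf c₀ ∣ p := orderOf_dvd_of_pow_eq_one hcp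
      have h2 : orderOf c ∣ p := (hall c).trans h1
      have h3 : orderOf c = p := by
        rcases (Nat.dvd_prime hp).mp h2 with h | h
        · exact absurd (orderOf_eq_one_iff.mp h) hc1
        · exact h
      exact ⟨c, hc, fun x => h3 ▸ (hall x).trans h1⟩
    · obtain ⟨z, hz, c, hc, hzc⟩ := Subgroup.mem_sup_of_normal_right.mp (hsup c₀)
      obtain ⟨i, rfl⟩ := Subgroup.mem_zpowers_iff.mp hz
      have hcp' : c ^ p = c₀ ^ p := by
        rw [← hzc, (show Commute (a ^ i) c from hcomm _ _).mul_pow, ← zpow_natCast (a ^ i) p,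
          ← zpow_mul, mul_comm, zpow_mul, zpow_natCast, hap, one_zpow, one_mul]
      obtain ⟨k, hk⟩ := hQ c
      have hk0 : k ≠ 0 := by
        rintro rfl
        rw [pow_zero, orderOf_eq_one_iff] at hk
        rw [hk, one_pow] at hcp'
        exact hcp hcp'.symm
      have hpn : p ∣ orderOf c := by rw [hk]; exact dvd_pow_self p hk0
      obtain ⟨n', hn'⟩ := hpn
      have h1 : c₀ ^ orderOf c = 1 := by
        rw [hn', pow_mul, ← hcp', ← pow_mul, ← hn', pow_orderOf_eq_one]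
      exact ⟨c, hc, fun x => (hall x).trans (orderOf_dvd_of_pow_eq_one h1)⟩

theorem nonab : NonabStmt.{u} := by
  intro G _ _ hG M E hM hE p _ A hT hS hnb
  have hp : p.Prime := Fact.out
  have h16 : H16 G := fun M hM p _ A hA => Cfsg.Agent.S1416.result hG M hM p A hA
  have h17 : H17 G := fun M hM p _ hp A hA => Cfsg.Agent.S1417.result hG M hM p hp A hA
  have h18 := Cfsg.Agent.Lib.Helper3.BG12.h18_of hG h16 h17
  have h : Ctx7 M E p A := ⟨hM, hE, hT.hp, hT.hAE, hT.hA, hT.hA2⟩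
  have hEM : E ≤ M := hE.1
  have hAM : A ≤ M := hT.hAE.trans hEM
  obtain ⟨P₁, S, x, hP₁, hAP₁, hP₁S, hSs, hxS, hxM, hxA, hZA, hZ, htr⟩ :=
    Cfsg.Agent.Lib.Helper4.BG12x.exists_transv hG h16 h17 h hS
  have hSna : ¬ IsMulCommutative S := by
    have hcard : Nat.card S = p ^ (Nat.card G).factorization p := by
      have := hSs.2
      rwa [Subgroup.card_top] at this
    exact hS (Sylow.ofCard S hcard)
  have hSp : IsPGroup p S := isPGroup_of_mem_sylSet hSs
  have hpow := Cfsg.Agent.Lib.Helper8.BG12x.pow_mem_omegaZ hG h16 h17 h hP₁ hAP₁ hP₁S hSs hSna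
  obtain ⟨h1, h2, h3⟩ := Cfsg.Agent.Lib.Helper2.BG12x.fix_points hG h16 h17 h18 h hSp
    (hAP₁.trans hP₁S) hxS hxM hxA hZA hZ htr hnb
  obtain ⟨-, h17b, -, -, -, -⟩ := h17 M hM p hT.hp A ⟨hAM, hT.hA, hT.hA2⟩
  obtain ⟨⟨h18N, h18X⟩, ⟨h18C, h18E, -⟩, -⟩ :=
    h18 M hM E hE p hT.hp A ⟨hT.hAE, hT.hA, hT.hA2⟩
  generalize hA₀ : A ⊓ Subgroup.centralizer (sigmaCore M : Set G) = A₀ at h1 h2 h3 ⊢
  have hA₀A : A₀ ≤ A := hA₀ ▸ inf_le_left
  have hA₀C : A₀ ≤ Subgroup.centralizer (sigmaCore M : Set G) := hA₀ ▸ inf_le_right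
  have hAexp : ∀ a ∈ A, a ^ p = 1 := hT.hA.2
  have hAZ : A₀ ⊓ omegaZ p S = ⊥ := by
    have hdvd : Nat.card ↥(A₀ ⊓ omegaZ p S) ∣ p := by
      have := Subgroup.card_dvd_of_le (inf_le_left : A₀ ⊓ omegaZ p S ≤ A₀)
      rwa [h1] at this
    rcases (Nat.dvd_prime hp).mp hdvd with hc | hc
    · exact Subgroup.card_eq_one.mp hc
    · exfalso
      have e1 : A₀ ⊓ omegaZ p S = A₀ :=
        Subgroup.eq_of_le_of_card_ge inf_le_left (by rw [hc, h1])
      have e2 : A₀ ≤ omegaZ p S := e1 ▸ inf_le_right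
      exact h2 (Subgroup.eq_of_le_of_card_ge e2 (by rw [hZ, h1]))
  have hstar1 : ∀ v ∈ P₁, v ^ p ∈ A₀ → v ^ p = 1 := by
    intro v hv hw
    have hw2 : (v ^ p) ^ p = 1 := hAexp _ (hA₀A hw)
    have hz : v ^ p ∈ omegaZ p S := hpow v hv (by rw [pow_two, pow_mul]; exact hw2)
    have h5 : v ^ p ∈ A₀ ⊓ omegaZ p S := ⟨hw, hz⟩
    rw [hAZ] at h5
    exact Subgroup.mem_bot.mp h5
  have hcommM : ∀ R ∈ sylSet p M, ∀ a ∈ R, ∀ b ∈ R, a * b = b * a := by
    intro R hR
    obtain ⟨Sy, hSy⟩ := exists_sylow_of_mem_sylSet hR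
    have hcom := (h17b Sy).1
    rw [← hSy]
    rintro _ ⟨a, ha, rfl⟩ _ ⟨b, hb, rfl⟩
    have h1 := hcom.is_comm.comm ⟨a, ha⟩ ⟨b, hb⟩
    exact congrArg (fun x : (Sy : Subgroup M) => ((x : M) : G)) h1
  have hP₁E : P₁ ≤ E := by
    intro y hy
    have hyC : y ∈ Subgroup.centralizer (A : Set G) := by
      rw [Subgroup.mem_centralizer_iff]
      intro a ha
      exact hcommM P₁ hP₁ a (hAP₁ ha) y hy
    rw [← h18E]
    exact h18C hyC
  have hP₁sE : P₁ ∈ sylSet p E := by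
    obtain ⟨R, hR, hP₁R⟩ := exists_sylSet_ge (isPGroup_of_mem_sylSet hP₁) hP₁E
    have h5 := sylSet_eq_of_le hP₁ (isPGroup_of_mem_sylSet hR) (hR.1.trans hEM) hP₁R
    exact h5 ▸ hR
  have hEA₀ : ∀ n ∈ E, ∀ a ∈ A₀, n⁻¹ * a * n ∈ A₀ := by
    intro n hn a ha
    rw [← hA₀]
    refine ⟨?_, ?_⟩
    · have hn' : n⁻¹ ∈ Subgroup.normalizer (A : Set G) := h18N (E.inv_mem hn)
      have h5 := (Subgroup.mem_normalizer_iff.mp hn' a).mp (hA₀A ha)
      simpa using h5
    · show n⁻¹ * a * n ∈ Subgroup.centralizer (sigmaCore M : Set G)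
      rw [Subgroup.mem_centralizer_iff]
      intro s hs
      have hnM : n ∈ Subgroup.normalizer ((sigmaCore M : Subgroup G) : Set G) :=
        sigmaCore_normalizer M (hEM hn)
      have hs' : n * s * n⁻¹ ∈ sigmaCore M := (Subgroup.mem_normalizer_iff.mp hnM s).mp hs
      have hc := (Subgroup.mem_centralizer_iff.mp (hA₀C ha)) _ hs'
      calc s * (n⁻¹ * a * n) = n⁻¹ * ((n * s * n⁻¹) * a) * n := by group
        _ = n⁻¹ * (a * (n * s * n⁻¹)) * n := by rw [hc]
        _ = n⁻¹ * a * n * s := by group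
  have hstar : ∀ R ∈ sylSet p E, ∀ v ∈ R, v ^ p ∈ A₀ → v ^ p = 1 := by
    intro R hR v hv hw
    obtain ⟨n, hn, hnR⟩ := sylSet_conj hP₁sE hR
    rw [← hnR, mem_cj] at hv
    have h5 : (n⁻¹ * v * n) ^ p = n⁻¹ * v ^ p * n := by
      have h6 := conj_pow (a := n⁻¹) (b := v) (i := p)
      simpa using h6
    have h6 := hstar1 _ hv (by rw [h5]; exact hEA₀ n hn _ hw)
    rw [h5] at h6
    have h7 : v ^ p = n * (n⁻¹ * v ^ p * n) * n⁻¹ := by group
    rw [h7, h6]
    group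
  refine ⟨?_, ?_⟩
  · intro e he hpe hfix
    obtain ⟨k, hk⟩ := hpe
    rcases Nat.eq_zero_or_pos k with hk0 | hkpos
    · rw [hk0, pow_zero, orderOf_eq_one_iff] at hk
      rw [hk]
      exact Subgroup.one_mem _
    · have hf : orderOf (e ^ p ^ (k - 1)) = p := by
        rw [nonab_aux_ord p hp e k (k - 1) hk (Nat.sub_le k 1)]
        have : k - (k - 1) = 1 := by omega
        rw [this, pow_one]
      have hXE : Subgroup.zpowers (e ^ p ^ (k - 1)) ≤ E :=
        (Subgroup.zpowers_le).mpr (E.pow_mem he _)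
      have hXc : Nat.card (Subgroup.zpowers (e ^ p ^ (k - 1))) = p := by
        rw [Nat.card_zpowers, hf]
      have hXA₀ : Subgroup.zpowers (e ^ p ^ (k - 1)) = A₀ := by
        by_contra hne
        have hgood := (h3 _ hXE hXc hne).1
        apply hfix
        rw [eq_bot_iff, ← hgood]
        refine inf_le_inf_left _ ?_
        intro g hg
        rw [Subgroup.mem_centralizer_iff] at hg ⊢
        intro z hz
        obtain ⟨i, rfl⟩ := Subgroup.mem_zpowers_iff.mp hz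
        have h0 : Commute e g := hg e rfl
        exact ((h0.pow_left _).zpow_left i)
      have hfA₀ : e ^ p ^ (k - 1) ∈ A₀ := hXA₀ ▸ Subgroup.mem_zpowers _
      rcases Nat.lt_or_ge k 2 with hk2 | hk2
      · have hk1 : k = 1 := by omega
        rw [hk1] at hfA₀
        simpa using hfA₀
      · exfalso
        have hvE : e ^ p ^ (k - 2) ∈ E := E.pow_mem he _
        have hvo : orderOf (e ^ p ^ (k - 2)) = p ^ 2 := by
          rw [nonab_aux_ord p hp e k (k - 2) hk (Nat.sub_le k 2)]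
          congr 1
          omega
        have hpg : IsPGroup p (Subgroup.zpowers (e ^ p ^ (k - 2))) :=
          IsPGroup.of_card (n := 2) (by rw [Nat.card_zpowers, hvo])
        obtain ⟨R, hR, hvR⟩ := exists_sylSet_ge hpg ((Subgroup.zpowers_le).mpr hvE)
        have hvp : (e ^ p ^ (k - 2)) ^ p = e ^ p ^ (k - 1) := by
          rw [← pow_mul, ← pow_succ]
          congr 2
          omega
        have h5 := hstar R hR _ (hvR (Subgroup.mem_zpowers _)) (by rw [hvp]; exact hfA₀)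
        rw [hvp] at h5
        rw [h5, orderOf_one] at hf
        exact hp.ne_one hf.symm
  · intro P hP
    have hPs : P ∈ sylSet p E := Cfsg.Agent.Lib.Helper3.U95.mem_sylSet_of_isSylIn hP
    obtain ⟨n, hn, hnP⟩ := sylSet_conj hP₁sE hPs
    have hnM : n ∈ Subgroup.normalizer (M : Set G) := Subgroup.le_normalizer (hEM hn)
    have hPsM : P ∈ sylSet p M := hnP ▸ cj_mem_sylSet hnM hP₁
    have hPcomm := hcommM P hPsM
    have hAP : A ≤ P := by
      have h5 := cj_mono n hAP₁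
      rw [cj_eq_self_of_le_normalizer h18N hn, hnP] at h5
      exact h5
    have hA₀P : A₀ ≤ P := hA₀A.trans hAP
    obtain ⟨a₀, ha₀, ha₀1⟩ : ∃ a₀ ∈ A₀, a₀ ≠ 1 := by
      by_contra hno
      push Not at hno
      have h5 : A₀ = ⊥ := by
        rw [eq_bot_iff]
        intro g hg
        exact Subgroup.mem_bot.mpr (hno g hg)
      rw [h5, Subgroup.card_bot] at h1
      exact hp.ne_one h1.symm
    have ha₀o : orderOf a₀ = p := orderOf_eq_prime (hAexp a₀ (hA₀A ha₀)) ha₀1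
    have hzA₀ : Subgroup.zpowers a₀ = A₀ :=
      Subgroup.eq_of_le_of_card_ge ((Subgroup.zpowers_le).mpr ha₀)
        (by rw [Nat.card_zpowers, ha₀o, h1])
    obtain ⟨b, hbA, hbA₀⟩ : ∃ b ∈ A, b ∉ A₀ := by
      by_contra hno
      push Not at hno
      have hle : A ≤ A₀ := fun g hg => hno g hg
      have h5 := Subgroup.card_le_of_le hle
      rw [hT.hA2, h1] at h5
      have h6 := hp.one_lt
      nlinarith
    have hmemz : ∀ g : ↥P, g ∈ Subgroup.zpowers (⟨a₀, hA₀P ha₀⟩ : ↥P) ↔ (g : G) ∈ A₀ := by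
      intro g
      rw [← hzA₀]
      constructor
      · rintro ⟨i, rfl⟩
        exact ⟨i, by simp⟩
      · rintro ⟨i, hi⟩
        exact ⟨i, Subtype.ext (by simpa using hi)⟩
    have ha'o : orderOf (⟨a₀, hA₀P ha₀⟩ : ↥P) = p :=
      (Subgroup.orderOf_coe (⟨a₀, hA₀P ha₀⟩ : ↥P)).symm.trans ha₀o
    have hstar' : ∀ v : ↥P, v ^ p ∈ Subgroup.zpowers (⟨a₀, hA₀P ha₀⟩ : ↥P) → v ^ p = 1 := by
      intro v hv
      have h5 := hstar P hPs (v : G) v.2 (by
        have h6 := (hmemz _).mp hv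
        simpa using h6)
      exact Subtype.ext (by simpa using h5)
    have hb' : ∃ b' : ↥P, b' ∉ Subgroup.zpowers (⟨a₀, hA₀P ha₀⟩ : ↥P) :=
      ⟨⟨b, hAP hbA⟩, fun hb => hbA₀ ((hmemz _).mp hb)⟩
    have hQ : ∀ g : ↥P, ∃ k : ℕ, orderOf g = p ^ k := by
      intro g
      have hPp : IsPGroup p P := isPGroup_of_mem_sylSet hPs
      obtain ⟨k, hk⟩ := hPp g
      obtain ⟨m, -, hm⟩ := (Nat.dvd_prime_pow hp).mp (orderOf_dvd_of_pow_eq_one hk)
      exact ⟨m, hm⟩
    obtain ⟨C, hC1, hC2, c, hc, hcmax⟩ := nonab_aux_compl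
      (fun a b : ↥P => Subtype.ext (hPcomm a a.2 b b.2)) p _ ha'o hstar' hb' hQ
    refine ⟨C.map P.subtype, ?_, ?_, ?_, ?_⟩
    · rintro _ ⟨g, -, rfl⟩
      exact g.2
    · rw [eq_bot_iff]
      rintro g ⟨hg1, ⟨g', hg', rfl⟩⟩
      have h5 : g' ∈ Subgroup.zpowers (⟨a₀, hA₀P ha₀⟩ : ↥P) ⊓ C := ⟨(hmemz g').mpr hg1, hg'⟩
      rw [hC1, Subgroup.mem_bot] at h5
      rw [h5]
      exact Subgroup.one_mem _
    · apply le_antisymm
      · exact sup_le hA₀P (by rintro _ ⟨g, -, rfl⟩; exact g.2)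
      · intro g hg
        have h5 : (⟨g, hg⟩ : ↥P) ∈ Subgroup.zpowers (⟨a₀, hA₀P ha₀⟩ : ↥P) ⊔ C := by
          rw [hC2]
          exact Subgroup.mem_top _
        have : C.Normal :=
          ⟨fun n hn g => by
            rw [show g * n = n * g from Subtype.ext (hPcomm g g.2 n n.2), mul_inv_cancel_right]
            exact hn⟩
        obtain ⟨z, hz, c', hc', hzc⟩ := Subgroup.mem_sup_of_normal_right.mp h5
        have h6 : g = (z : G) * (c' : G) := by
          have h7 := congrArg (Subtype.val) hzc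
          simpa using h7.symm
        rw [h6]
        exact Subgroup.mul_mem_sup ((hmemz z).mp hz) ⟨c', hc', rfl⟩
    · refine ⟨(c : G), ⟨c, hc, rfl⟩, ?_⟩
      intro x hx
      have h5 := hcmax ⟨x, hx⟩
      rw [← Subgroup.orderOf_coe, ← Subgroup.orderOf_coe] at h5
      exact h5

end Cfsg.Agent.Lib.Helper31.FT12
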