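import Mathlib
import Cfsg.Prelude.Def_Balance
import Cfsg.Agent.Lib.Helper31.PComp

/-!
# p-group lemmas (helper31)

* `elemAb_sup`, `elemAb_zpowers`, `elemAb_of_le`, `not_pRankLE_of_le`, `exists_of_not_pRankLE`
* `exists_central_mod` : nilpotent, `C` normal, `¬ C ≤ A` gives `x ∈ C \ A` with `[x, g] ∈ A`
* `exists_max_normal_abelian`, `centralizer_le_of_max_normal_abelian`
* `exists_normal_le_card_eq` : normal subgroups of every order inside a normal subgroup of a p-group
* `card_le_mul_card_inf_centralizer` : `|E : C_E(U)| ≤ p` for `U` normal of order `p ^ 2`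
* `exists_gen_of_elemAb_card_le` : abelian p-group with `|Ω₁| ≤ p` is cyclic
* `exists_normal_elemAb_sq` : a p-group of rank `≥ 3` has a normal elementary abelian subgroup of order `≥ p ^ 2`
-/

set_option autoImplicit false

namespace Cfsg.Agent.Lib.Helper31

open Cfsg
open scoped commutatorElement

section pgrp

variable {P : Type*} [Group P]



theorem isMulComm_iff {H : Subgroup P} :
    IsMulCommutative H ↔ ∀ a ∈ H, ∀ b ∈ H, a * b = b * a := by
  constructor
  · intro h a ha b hb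
    exact congrArg Subtype.val (h.is_comm.comm ⟨a, ha⟩ ⟨b, hb⟩)
  · intro h
    exact ⟨⟨fun a b => Subtype.ext (h a.1 a.2 b.1 b.2)⟩⟩

theorem elemAb_sup {p : ℕ} {X Y : Subgroup P} (hX : IsElementaryAbelian p X)
    (hY : IsElementaryAbelian p Y) (hc : ∀ a ∈ X, ∀ b ∈ Y, a * b = b * a) :
    IsElementaryAbelian p (X ⊔ Y) := by
  have hXc := isMulComm_iff.mp hX.1
  have hYc := isMulComm_iff.mp hY.1
  have h1 : X ⊔ Y ≤ Subgroup.centralizer (X : Set P) := by
    refine sup_le ?_ ?_
    · intro a ha b hb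
      exact hXc b hb a ha
    · intro a ha b hb
      exact hc b hb a ha
  have h2 : X ⊔ Y ≤ Subgroup.centralizer (Y : Set P) := by
    refine sup_le ?_ ?_
    · intro a ha b hb
      exact (hc a ha b hb).symm
    · intro a ha b hb
      exact hYc b hb a ha
  have hcomm : ∀ a ∈ X ⊔ Y, ∀ b ∈ X ⊔ Y, a * b = b * a := by
    intro a ha b hb
    have h3 : X ⊔ Y ≤ Subgroup.centralizer ({a} : Set P) := by
      refine sup_le ?_ ?_
      · intro x hx y hy
        rw [Set.mem_singleton_iff] at hy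
        subst hy
        exact (h1 ha x hx).symm
      · intro x hx y hy
        rw [Set.mem_singleton_iff] at hy
        subst hy
        exact (h2 ha x hx).symm
    exact (h3 hb a rfl)
  refine ⟨isMulComm_iff.mpr hcomm, ?_⟩
  intro a ha
  have key : ∀ x ∈ X ⊔ Y, x ∈ X ⊔ Y ∧ x ^ p = 1 := by
    intro x hx
    rw [Subgroup.sup_eq_closure] at hx
    induction hx using Subgroup.closure_induction with
    | mem x hx =>
      rcases hx with hx | hx
      · exact ⟨Subgroup.mem_sup_left hx, hX.2 x hx⟩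
      · exact ⟨Subgroup.mem_sup_right hx, hY.2 x hx⟩
    | one => exact ⟨Subgroup.one_mem _, one_pow _⟩
    | mul x y _ _ ihx ihy =>
      refine ⟨Subgroup.mul_mem _ ihx.1 ihy.1, ?_⟩
      have : Commute x y := hcomm x ihx.1 y ihy.1
      rw [this.mul_pow, ihx.2, ihy.2, one_mul]
    | inv x _ ihx =>
      exact ⟨Subgroup.inv_mem _ ihx.1, by rw [inv_pow, ihx.2, inv_one]⟩
  exact (key a ha).2

/-- witness for large rank inside a subgroup -/
theorem not_pRankLE_of_le {p k : ℕ} {W C : Subgroup P} (hWC : W ≤ C)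
    (hW : IsElementaryAbelian p W) (hcard : p ^ k < Nat.card W) : ¬ PRankLE p k ↥C := by
  intro h
  have h1 := h (W.subgroupOf C) ?_ ?_
  · rw [Nat.card_congr (Subgroup.subgroupOfEquivOfLe hWC).toEquiv] at h1
    omega
  · refine isMulComm_iff.mpr ?_
    intro a ha b hb
    apply Subtype.ext
    exact isMulComm_iff.mp hW.1 a.1 ha b.1 hb
  · intro a ha
    apply Subtype.ext
    simpa using hW.2 a.1 ha

theorem exists_of_not_pRankLE {p k : ℕ} {C : Subgroup P} (h : ¬ PRankLE p k ↥C) :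
    ∃ W : Subgroup P, W ≤ C ∧ IsElementaryAbelian p W ∧ p ^ k < Nat.card W := by
  unfold PRankLE at h
  push Not at h
  obtain ⟨A, hA1, hA2, hA3⟩ := h
  refine ⟨A.map C.subtype, ?_, ⟨?_, ?_⟩, ?_⟩
  · rintro x ⟨y, -, rfl⟩
    exact y.2
  · refine isMulComm_iff.mpr ?_
    rintro a ⟨x, hx, rfl⟩ b ⟨y, hy, rfl⟩
    have := isMulComm_iff.mp hA1 x hx y hy
    exact congrArg Subtype.val this
  · rintro a ⟨x, hx, rfl⟩
    have := hA2 x hx
    simpa using congrArg Subtype.val this
  · rw [Nat.card_congr (Subgroup.equivMapOfInjective A C.subtype C.subtype_injective).toEquiv.symm]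
    exact hA3

theorem exists_of_not_pRankLE_top {p k : ℕ} (h : ¬ PRankLE p k P) :
    ∃ W : Subgroup P, IsElementaryAbelian p W ∧ p ^ k < Nat.card W := by
  unfold PRankLE at h
  push Not at h
  obtain ⟨A, hA1, hA2, hA3⟩ := h
  exact ⟨A, ⟨hA1, hA2⟩, hA3⟩



theorem exists_central_mod [Group.IsNilpotent P] {C A : Subgroup P} [C.Normal] (h : ¬ C ≤ A) :
    ∃ x ∈ C, x ∉ A ∧ ∀ g : P, x * g * x⁻¹ * g⁻¹ ∈ A := by
  classical
  obtain ⟨n, hn⟩ := Group.IsNilpotent.nilpotent P
  have hQ : ∃ i, ¬ (C ⊓ Subgroup.upperCentralSeries P i ≤ A) := ⟨n, by rw [hn, inf_top_eq]; exact h⟩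
  have hi := Nat.find_spec hQ
  have hmin := fun j => Nat.find_min hQ (m := j)
  rcases hk : Nat.find hQ with _ | j
  · rw [hk] at hi
    exact absurd (by rw [Subgroup.upperCentralSeries_zero, inf_bot_eq]; exact bot_le) hi
  · rw [hk] at hi hmin
    have hj : C ⊓ Subgroup.upperCentralSeries P j ≤ A := by
      have := hmin j (Nat.lt_succ_self j)
      exact not_not.mp this
    rw [SetLike.not_le_iff_exists] at hi
    obtain ⟨x, hx, hxA⟩ := hi
    refine ⟨x, hx.1, hxA, fun g => hj ⟨?_, ?_⟩⟩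
    · have h1 : g * x⁻¹ * g⁻¹ ∈ C := Subgroup.Normal.conj_mem inferInstance _ (C.inv_mem hx.1) g
      have : x * g * x⁻¹ * g⁻¹ = x * (g * x⁻¹ * g⁻¹) := by group
      rw [this]
      exact C.mul_mem hx.1 h1
    · exact (Subgroup.mem_upperCentralSeries_succ_iff).mp hx.2 g

theorem exists_max_normal_abelian [Finite P] :
    ∃ A : Subgroup P, A.Normal ∧ IsMulCommutative A ∧
      ∀ B : Subgroup P, B.Normal → IsMulCommutative B → A ≤ B → B = A := by
  obtain ⟨A, hA⟩ := exists_maximal_of_wellFoundedGT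
    (fun A : Subgroup P => A.Normal ∧ IsMulCommutative A)
    ⟨⊥, inferInstance, isMulComm_iff.mpr (by
      intro a ha b hb
      rw [Subgroup.mem_bot] at ha hb
      rw [ha, hb])⟩
  refine ⟨A, hA.1.1, hA.1.2, fun B hB1 hB2 hAB => ?_⟩
  exact le_antisymm (hA.2 ⟨hB1, hB2⟩ hAB) hAB

theorem centralizer_le_of_max_normal_abelian [Finite P] [Group.IsNilpotent P] {A : Subgroup P}
    (hAn : A.Normal) (hAc : IsMulCommutative A)
    (hmax : ∀ B : Subgroup P, B.Normal → IsMulCommutative B → A ≤ B → B = A) :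
    Subgroup.centralizer (A : Set P) ≤ A := by
  by_contra hC
  obtain ⟨x, hxC, hxA, hx⟩ := exists_central_mod hC
  have hAcomm := isMulComm_iff.mp hAc
  have hB : (A ⊔ Subgroup.zpowers x).Normal := by
    apply normal_of_map_conj_le
    intro g
    rw [Subgroup.map_sup]
    refine sup_le ?_ ?_
    · rw [map_conj_eq_of_normal]
      exact le_sup_left
    · rw [MonoidHom.map_zpowers, Subgroup.zpowers_le]
      have h1 := hx g⁻¹
      have h2 : (MulAut.conj g).toMonoidHom x = (g * (x * g⁻¹ * x⁻¹ * g⁻¹⁻¹) * g⁻¹) * x := by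
        simp only [MulEquiv.toMonoidHom_eq_coe, MonoidHom.coe_coe, MulAut.conj_apply]
        group
      rw [h2]
      refine Subgroup.mul_mem _ (Subgroup.mem_sup_left ?_) (Subgroup.mem_sup_right (Subgroup.mem_zpowers x))
      exact hAn.conj_mem _ h1 g
  have hBc : IsMulCommutative ↥(A ⊔ Subgroup.zpowers x) := by
    have hxc : ∀ a ∈ A, a * x = x * a := fun a ha => hxC a ha
    have h1 : A ⊔ Subgroup.zpowers x ≤ Subgroup.centralizer (A : Set P) := by
      refine sup_le ?_ ?_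
      · intro a ha b hb
        exact hAcomm b hb a ha
      · rw [Subgroup.zpowers_le]
        exact hxC
    have h2 : A ⊔ Subgroup.zpowers x ≤ Subgroup.centralizer ({x} : Set P) := by
      refine sup_le ?_ ?_
      · intro a ha b hb
        rw [Set.mem_singleton_iff] at hb
        subst hb
        exact (hxc a ha).symm
      · rw [Subgroup.zpowers_le]
        intro b hb
        rw [Set.mem_singleton_iff] at hb
        subst hb
        rfl
    refine isMulComm_iff.mpr ?_
    intro a ha b hb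
    have h3 : A ⊔ Subgroup.zpowers x ≤ Subgroup.centralizer ({a} : Set P) := by
      refine sup_le ?_ ?_
      · intro y hy z hz
        rw [Set.mem_singleton_iff] at hz
        subst hz
        exact (h1 ha y hy).symm
      · rw [Subgroup.zpowers_le]
        intro z hz
        rw [Set.mem_singleton_iff] at hz
        subst hz
        exact (h2 ha x rfl).symm
    exact h3 hb a rfl
  have := hmax _ hB hBc le_sup_left
  exact hxA (this ▸ Subgroup.mem_sup_right (Subgroup.mem_zpowers x))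



theorem card_pow_of_isPGroup {p : ℕ} [Fact p.Prime] [Finite P] (hP : IsPGroup p P)
    (H : Subgroup P) : ∃ n, Nat.card H = p ^ n :=
  IsPGroup.iff_card.mp (hP.to_subgroup H)

theorem card_lt_card_of_lt [Finite P] {H K : Subgroup P} (h : H < K) :
    Nat.card H < Nat.card K := by
  have h1 : Nat.card H ≤ Nat.card K := Subgroup.card_le_of_le h.le
  have h2 : Nat.card H ≠ Nat.card K := fun h3 =>
    h.ne (Subgroup.eq_of_le_of_card_ge h.le h3.ge)
  omega

theorem exists_normal_le_card_eq {p : ℕ} [Fact p.Prime] [Finite P] (hP : IsPGroup p P)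
    {N : Subgroup P} [hN : N.Normal] {k : ℕ} (hk : p ^ k ≤ Nat.card N) :
    ∃ U : Subgroup P, U ≤ N ∧ U.Normal ∧ Nat.card U = p ^ k := by
  classical
  have : Group.IsNilpotent P := hP.isNilpotent
  have hp := (Fact.out : p.Prime)
  obtain ⟨n, hn⟩ := Group.IsNilpotent.nilpotent P
  have hQ : ∃ i, p ^ k ≤ Nat.card ↥(N ⊓ Subgroup.upperCentralSeries P i) :=
    ⟨n, by rw [hn, inf_top_eq]; exact hk⟩
  have hi := Nat.find_spec hQ
  have hmin := fun j => Nat.find_min hQ (m := j)
  rcases hfind : Nat.find hQ with _ | j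
  · rw [hfind, Subgroup.upperCentralSeries_zero, inf_bot_eq, Subgroup.card_bot] at hi
    have hk0 : k = 0 := by
      by_contra h
      have : 1 < p ^ k := Nat.one_lt_pow h hp.one_lt
      omega
    exact ⟨⊥, bot_le, inferInstance, by rw [hk0, pow_zero, Subgroup.card_bot]⟩
  · rw [hfind] at hi hmin
    have hj : Nat.card ↥(N ⊓ Subgroup.upperCentralSeries P j) < p ^ k := by
      have := hmin j (Nat.lt_succ_self j)
      omega
    have hMT : N ⊓ Subgroup.upperCentralSeries P j ≤ N ⊓ Subgroup.upperCentralSeries P (j + 1) :=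
      inf_le_inf_left _ (Subgroup.upperCentralSeries_mono P (Nat.le_succ j))
    obtain ⟨t, ht⟩ := card_pow_of_isPGroup hP (N ⊓ Subgroup.upperCentralSeries P (j + 1))
    obtain ⟨m, hm⟩ := card_pow_of_isPGroup hP (N ⊓ Subgroup.upperCentralSeries P j)
    have hkt : k ≤ t := by
      rw [ht] at hi
      exact (Nat.pow_le_pow_iff_right hp.one_lt).mp hi
    have hmk : m ≤ k := by
      rw [hm] at hj
      exact ((Nat.pow_lt_pow_iff_right hp.one_lt).mp hj).le
    have hdvd : p ^ k ∣ Nat.card ↥(N ⊓ Subgroup.upperCentralSeries P (j + 1)) := by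
      rw [ht]; exact pow_dvd_pow p hkt
    have hH : Nat.card ↥((N ⊓ Subgroup.upperCentralSeries P j).subgroupOf
        (N ⊓ Subgroup.upperCentralSeries P (j + 1))) = p ^ m := by
      rw [Nat.card_congr (Subgroup.subgroupOfEquivOfLe hMT).toEquiv, hm]
    obtain ⟨K', hK'1, hK'2⟩ := Sylow.exists_subgroup_card_pow_prime_le p hdvd _ hH hmk
    refine ⟨K'.map (N ⊓ Subgroup.upperCentralSeries P (j + 1)).subtype, ?_, ?_, ?_⟩
    · rintro x ⟨y, -, rfl⟩
      exact y.2.1
    · have hMU : N ⊓ Subgroup.upperCentralSeries P j ≤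
          K'.map (N ⊓ Subgroup.upperCentralSeries P (j + 1)).subtype := by
        intro x hx
        exact ⟨⟨x, hMT hx⟩, hK'2 (Subgroup.mem_subgroupOf.mpr hx), rfl⟩
      refine ⟨fun u hu g => ?_⟩
      have huT : u ∈ N ⊓ Subgroup.upperCentralSeries P (j + 1) := by
        obtain ⟨y, -, rfl⟩ := hu
        exact y.2
      have h1 : g * u * g⁻¹ * u⁻¹ ∈ N ⊓ Subgroup.upperCentralSeries P j := by
        refine ⟨N.mul_mem (hN.conj_mem u huT.1 g) (N.inv_mem huT.1), ?_⟩
        have h2 : u * g * u⁻¹ * g⁻¹ ∈ Subgroup.upperCentralSeries P j :=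
          (Subgroup.mem_upperCentralSeries_succ_iff).mp huT.2 g
        have h3 := (Subgroup.upperCentralSeries P j).inv_mem h2
        have h4 : (u * g * u⁻¹ * g⁻¹)⁻¹ = g * u * g⁻¹ * u⁻¹ := by group
        rwa [h4] at h3
      have : g * u * g⁻¹ = (g * u * g⁻¹ * u⁻¹) * u := by group
      rw [this]
      exact Subgroup.mul_mem _ (hMU h1) hu
    · rw [Subgroup.card_map_of_injective (Subgroup.subtype_injective _), hK'1]

theorem card_le_mul_card_inf_centralizer {p : ℕ} [Fact p.Prime] [Finite P] (hP : IsPGroup p P)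
    {U : Subgroup P} [hU : U.Normal] (hcard : Nat.card U = p ^ 2) (E : Subgroup P) :
    Nat.card E ≤ p * Nat.card ↥(E ⊓ Subgroup.centralizer (U : Set P)) := by
  classical
  have : Group.IsNilpotent P := hP.isNilpotent
  have hp := (Fact.out : p.Prime)
  by_cases hUZ : U ≤ Subgroup.center P
  · have : E ⊓ Subgroup.centralizer (U : Set P) = E := by
      apply inf_eq_left.mpr
      intro e _ u hu
      exact (Subgroup.mem_center_iff.mp (hUZ hu) e).symm
    rw [this]
    exact Nat.le_mul_of_pos_left _ hp.pos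
  · obtain ⟨u, huU, huZ, hu⟩ := exists_central_mod hUZ
    have hKU : U ⊓ Subgroup.center P < U :=
      lt_of_le_of_ne inf_le_left (fun h => hUZ (h ▸ inf_le_right))
    have hcK : ∀ g : P, u * g * u⁻¹ * g⁻¹ ∈ U ⊓ Subgroup.center P := by
      intro g
      refine ⟨?_, hu g⟩
      have : u * g * u⁻¹ * g⁻¹ = u * (g * u⁻¹ * g⁻¹) := by group
      rw [this]
      exact U.mul_mem huU (hU.conj_mem _ (U.inv_mem huU) g)
    have hKne : U ⊓ Subgroup.center P ≠ ⊥ := by
      intro h
      apply huZ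
      rw [Subgroup.mem_center_iff]
      intro g
      have h1 := hcK g
      rw [h, Subgroup.mem_bot] at h1
      have h2 : u * g = (u * g * u⁻¹ * g⁻¹) * (g * u) := by group
      rw [h2, h1, one_mul]
    obtain ⟨m, hm⟩ := card_pow_of_isPGroup hP (U ⊓ Subgroup.center P)
    have hm1 : m = 1 := by
      have h1 : Nat.card ↥(U ⊓ Subgroup.center P) < Nat.card U :=
        card_lt_card_of_lt hKU
      rw [hm, hcard] at h1
      have h2 := (Nat.pow_lt_pow_iff_right hp.one_lt).mp h1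
      have h3 : m ≠ 0 := by
        intro h0
        rw [h0, pow_zero] at hm
        exact hKne (Subgroup.card_eq_one.mp hm)
      omega
    rw [hm1, pow_one] at hm
    have hV : U ⊓ Subgroup.center P ⊔ Subgroup.zpowers u = U := by
      have hle : U ⊓ Subgroup.center P ⊔ Subgroup.zpowers u ≤ U :=
        sup_le inf_le_left (Subgroup.zpowers_le.mpr huU)
      apply Subgroup.eq_of_le_of_card_ge hle
      have hlt : U ⊓ Subgroup.center P < U ⊓ Subgroup.center P ⊔ Subgroup.zpowers u := by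
        refine lt_of_le_of_ne le_sup_left (fun h => huZ ?_)
        have : u ∈ U ⊓ Subgroup.center P := h ▸ Subgroup.mem_sup_right (Subgroup.mem_zpowers u)
        exact this.2
      have h1 := card_lt_card_of_lt hlt
      obtain ⟨m', hm'⟩ := card_pow_of_isPGroup hP (U ⊓ Subgroup.center P ⊔ Subgroup.zpowers u)
      rw [hm, hm'] at h1
      have h2 : 1 < m' := by
        by_contra hcon
        have : m' ≤ 1 := by omega
        have := Nat.pow_le_pow_right hp.pos this
        rw [pow_one] at this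
        omega
      rw [hcard, hm']
      exact Nat.pow_le_pow_right hp.pos h2
    have hcent : ∀ x : P, u * x = x * u → x ∈ Subgroup.centralizer (U : Set P) := by
      intro x hx
      have : U ≤ Subgroup.centralizer ({x} : Set P) := by
        rw [← hV]
        refine sup_le ?_ ?_
        · intro y hy z hz
          rw [Set.mem_singleton_iff] at hz
          subst hz
          exact (Subgroup.mem_center_iff.mp hy.2 z)
        · rw [Subgroup.zpowers_le]
          intro z hz
          rw [Set.mem_singleton_iff] at hz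
          subst hz
          exact hx.symm
      intro y hy
      exact (this hy x rfl).symm
    let c : P →* P :=
      { toFun := fun g => u * g * u⁻¹ * g⁻¹
        map_one' := by group
        map_mul' := by
          intro g h
          have hz := Subgroup.mem_center_iff.mp (hu h) g⁻¹
          calc u * (g * h) * u⁻¹ * (g * h)⁻¹
              = u * g * u⁻¹ * ((u * h * u⁻¹ * h⁻¹) * g⁻¹) := by group
            _ = u * g * u⁻¹ * (g⁻¹ * (u * h * u⁻¹ * h⁻¹)) := by rw [hz]
            _ = u * g * u⁻¹ * g⁻¹ * (u * h * u⁻¹ * h⁻¹) := by group }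
    have hc : ∀ g, c g = u * g * u⁻¹ * g⁻¹ := fun g => rfl
    have h1 := card_eq_card_ker_mul_card_map (c.comp E.subtype) ⊤ le_top
    rw [Subgroup.card_top] at h1
    have h2 : Nat.card ↥((⊤ : Subgroup ↥E).map (c.comp E.subtype)) ≤ p := by
      rw [← hm]
      apply Subgroup.card_le_of_le
      rintro _ ⟨x, -, rfl⟩
      exact hcK x.1
    have h3 : Nat.card ↥(c.comp E.subtype).ker ≤
        Nat.card ↥(E ⊓ Subgroup.centralizer (U : Set P)) := by
      rw [← Subgroup.card_map_of_injective (Subgroup.subtype_injective E)]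
      apply Subgroup.card_le_of_le
      rintro _ ⟨x, hx, rfl⟩
      refine ⟨x.2, hcent _ ?_⟩
      have h4 : u * x.1 * u⁻¹ * x.1⁻¹ = 1 := hx
      have h5 : u * x.1 = (u * x.1 * u⁻¹ * x.1⁻¹) * (x.1 * u) := by group
      show u * x.1 = x.1 * u
      rw [h5, h4, one_mul]
    rw [h1, mul_comm]
    exact Nat.mul_le_mul h2 h3

theorem conj_pow_mul {e c : P} {k : ℕ} (h : e * c * e⁻¹ = c ^ k) (t : ℕ) :
    e ^ t * c = c ^ (k ^ t) * e ^ t := by
  induction t with
  | zero => simp
  | succ t ih =>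
    have h1 : e * c ^ (k ^ t) = (c ^ k) ^ (k ^ t) * e := by
      rw [← h, conj_pow]
      group
    calc e ^ (t + 1) * c = e * (e ^ t * c) := by rw [pow_succ']; group
      _ = e * (c ^ (k ^ t) * e ^ t) := by rw [ih]
      _ = (e * c ^ (k ^ t)) * e ^ t := by group
      _ = (c ^ k) ^ (k ^ t) * e * e ^ t := by rw [h1]
      _ = c ^ (k ^ (t + 1)) * e ^ (t + 1) := by
        rw [← pow_mul, ← pow_succ', mul_assoc, ← pow_succ']

theorem mul_pow_of_conj {e c : P} {k : ℕ} (h : e * c * e⁻¹ = c ^ k) (t : ℕ) :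
    (c * e) ^ t = c ^ (∑ i ∈ Finset.range t, k ^ i) * e ^ t := by
  induction t with
  | zero => simp
  | succ t ih =>
    rw [pow_succ, ih, Finset.sum_range_succ, pow_add, pow_succ]
    have := conj_pow_mul h t
    calc c ^ (∑ i ∈ Finset.range t, k ^ i) * e ^ t * (c * e)
        = c ^ (∑ i ∈ Finset.range t, k ^ i) * (e ^ t * c) * e := by group
      _ = c ^ (∑ i ∈ Finset.range t, k ^ i) * (c ^ (k ^ t) * e ^ t) * e := by rw [this]
      _ = c ^ (∑ i ∈ Finset.range t, k ^ i) * c ^ (k ^ t) * (e ^ t * e) := by group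



theorem elemAb_zpowers {p : ℕ} {x : P} (h : x ^ p = 1) :
    IsElementaryAbelian p (Subgroup.zpowers x) := by
  refine ⟨isMulComm_iff.mpr ?_, ?_⟩
  · rintro a ⟨i, rfl⟩ b ⟨j, rfl⟩
    simp only
    rw [← zpow_add, ← zpow_add, add_comm]
  · rintro a ⟨i, rfl⟩
    simp only
    rw [← zpow_natCast, ← zpow_mul, mul_comm, zpow_mul, zpow_natCast, h, one_zpow]

theorem elemAb_of_le {p : ℕ} {X Y : Subgroup P} (h : X ≤ Y) (hY : IsElementaryAbelian p Y) :
    IsElementaryAbelian p X :=
  ⟨isMulComm_iff.mpr (fun a ha b hb => isMulComm_iff.mp hY.1 a (h ha) b (h hb)),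
    fun a ha => hY.2 a (h ha)⟩

theorem exists_gen_of_elemAb_card_le {p : ℕ} [Fact p.Prime] [Finite P] (hP : IsPGroup p P)
    {A : Subgroup P} (hA : IsMulCommutative A)
    (hΩ : ∀ W : Subgroup P, W ≤ A → IsElementaryAbelian p W → Nat.card W ≤ p) :
    ∃ a ∈ A, A ≤ Subgroup.zpowers a := by
  classical
  have hp := (Fact.out : p.Prime)
  have hAc := isMulComm_iff.mp hA
  obtain ⟨a, haA, hamax⟩ : ∃ a ∈ A, ∀ b ∈ A, orderOf b ≤ orderOf a := by
    obtain ⟨a, ha, hmax⟩ := (Set.toFinite (A : Set P)).exists_maximalFor orderOf _ ⟨1, A.one_mem⟩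
    refine ⟨a, ha, fun b hb => ?_⟩
    rcases le_total (orderOf b) (orderOf a) with h | h
    · exact h
    · exact hmax hb h
  obtain ⟨n, hn⟩ := IsPGroup.iff_orderOf.mp hP a
  have hexp : ∀ b ∈ A, b ^ p ^ n = 1 := by
    intro b hb
    obtain ⟨j, hj⟩ := IsPGroup.iff_orderOf.mp hP b
    have h1 := hamax b hb
    rw [hj, hn] at h1
    have h2 : j ≤ n := (Nat.pow_le_pow_iff_right hp.one_lt).mp h1
    rw [← orderOf_dvd_iff_pow_eq_one, hj]
    exact pow_dvd_pow p h2
  refine ⟨a, haA, ?_⟩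
  by_contra hcon
  rw [SetLike.not_le_iff_exists] at hcon
  obtain ⟨b₀, hb₀A, hb₀⟩ := hcon
  rcases n with _ | n'
  · have := hexp b₀ hb₀A
    rw [pow_zero, pow_one] at this
    exact hb₀ (this ▸ Subgroup.one_mem _)
  have hQ : ∃ j, b₀ ^ p ^ j ∈ Subgroup.zpowers a :=
    ⟨n' + 1, by rw [hexp b₀ hb₀A]; exact Subgroup.one_mem _⟩
  have hj := Nat.find_spec hQ
  have hmin := fun i => Nat.find_min hQ (m := i)
  rcases hfind : Nat.find hQ with _ | i
  · rw [hfind, pow_zero, pow_one] at hj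
    exact hb₀ hj
  rw [hfind] at hj hmin
  have hb : b₀ ^ p ^ i ∉ Subgroup.zpowers a := hmin i (Nat.lt_succ_self i)
  have hbA : b₀ ^ p ^ i ∈ A := A.pow_mem hb₀A _
  have hbp : (b₀ ^ p ^ i) ^ p ∈ Subgroup.zpowers a := by
    rw [← pow_mul, ← pow_succ]; exact hj
  generalize b₀ ^ p ^ i = b at hb hbA hbp
  obtain ⟨m, hm⟩ : ∃ m : ℕ, a ^ m = b ^ p :=
    (Submonoid.mem_powers_iff _ _).mp ((mem_powers_iff_mem_zpowers).mpr hbp)
  have hpm : p ∣ m := by
    have h1 : (b ^ p) ^ p ^ n' = 1 := by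
      rw [← pow_mul, ← pow_succ']; exact hexp b hbA
    rw [← hm, ← pow_mul, ← orderOf_dvd_iff_pow_eq_one, hn, pow_succ, mul_comm m] at h1
    exact (Nat.mul_dvd_mul_iff_left (pow_pos hp.pos n')).mp h1
  obtain ⟨m', rfl⟩ := hpm
  have hamA : (a ^ m')⁻¹ ∈ A := A.inv_mem (A.pow_mem haA _)
  have hcA : b * (a ^ m')⁻¹ ∈ A := A.mul_mem hbA hamA
  have hcp : (b * (a ^ m')⁻¹) ^ p = 1 := by
    have hcomm : Commute b (a ^ m')⁻¹ := hAc b hbA _ hamA
    rw [hcomm.mul_pow, inv_pow, ← pow_mul, mul_comm m' p, hm, mul_inv_cancel]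
  have hc : b * (a ^ m')⁻¹ ∉ Subgroup.zpowers a := by
    intro h
    apply hb
    have : b = b * (a ^ m')⁻¹ * a ^ m' := by group
    rw [this]
    exact Subgroup.mul_mem _ h (Subgroup.pow_mem _ (Subgroup.mem_zpowers a) _)
  generalize b * (a ^ m')⁻¹ = c at hcA hcp hc
  have hzA : a ^ p ^ n' ∈ A := A.pow_mem haA _
  have hzp : (a ^ p ^ n') ^ p = 1 := by
    rw [← pow_mul, ← pow_succ, ← hn, pow_orderOf_eq_one]
  have hz1 : a ^ p ^ n' ≠ 1 := by
    intro h
    rw [← orderOf_dvd_iff_pow_eq_one, hn] at h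
    have h1 := Nat.le_of_dvd (pow_pos hp.pos n') h
    have h2 : p ^ n' < p ^ (n' + 1) := Nat.pow_lt_pow_right hp.one_lt (Nat.lt_succ_self n')
    omega
  have hzo : orderOf (a ^ p ^ n') = p := orderOf_eq_prime hzp hz1
  have hza : Subgroup.zpowers (a ^ p ^ n') ≤ Subgroup.zpowers a :=
    Subgroup.zpowers_le.mpr (Subgroup.pow_mem _ (Subgroup.mem_zpowers a) _)
  have hW : IsElementaryAbelian p (Subgroup.zpowers (a ^ p ^ n') ⊔ Subgroup.zpowers c) := by
    apply elemAb_sup (elemAb_zpowers hzp) (elemAb_zpowers hcp)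
    intro x hx y hy
    exact hAc x (Subgroup.zpowers_le.mpr hzA hx) y (Subgroup.zpowers_le.mpr hcA hy)
  have hWA : Subgroup.zpowers (a ^ p ^ n') ⊔ Subgroup.zpowers c ≤ A :=
    sup_le (Subgroup.zpowers_le.mpr hzA) (Subgroup.zpowers_le.mpr hcA)
  have hWcard := hΩ _ hWA hW
  have hzcard : Nat.card (Subgroup.zpowers (a ^ p ^ n')) = p := by rw [Nat.card_zpowers, hzo]
  have heq : Subgroup.zpowers (a ^ p ^ n') = Subgroup.zpowers (a ^ p ^ n') ⊔ Subgroup.zpowers c :=
    Subgroup.eq_of_le_of_card_ge le_sup_left (by rw [hzcard]; exact hWcard)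
  apply hc
  have : c ∈ Subgroup.zpowers (a ^ p ^ n') :=
    heq ▸ Subgroup.mem_sup_right (Subgroup.mem_zpowers c)
  exact hza this

theorem modEq_one_of_pow {p k : ℕ} (hp : p.Prime) (h : k ^ p ≡ 1 [MOD p]) : k ≡ 1 [MOD p] := by
  have := Fact.mk hp
  have h1 : ((k ^ p : ℕ) : ZMod p) = ((1 : ℕ) : ZMod p) :=
    (ZMod.natCast_eq_natCast_iff _ _ _).mpr h
  rw [Nat.cast_pow, ZMod.pow_card] at h1
  exact (ZMod.natCast_eq_natCast_iff _ _ _).mp h1

theorem not_sq_dvd_geom_sum {p k : ℕ} (hp : p.Prime) (hodd : p ≠ 2) (hk : k ≡ 1 [MOD p]) :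
    ¬ p ^ 2 ∣ ∑ t ∈ Finset.range p, k ^ t := by
  intro hdvd
  have hk1 : 1 ≤ k := by
    rcases Nat.eq_zero_or_pos k with h | h
    · subst h
      have := (Nat.modEq_zero_iff_dvd.mp hk.symm)
      exact absurd (Nat.dvd_one.mp this) hp.one_lt.ne'
    · exact h
  obtain ⟨m, hm⟩ := (Nat.modEq_iff_dvd' hk1).mp hk.symm
  have hkm : k = 1 + p * m := by omega
  have hp2 : ((p : ZMod (p ^ 2)) ^ 2) = 0 := by
    rw [← Nat.cast_pow]; exact ZMod.natCast_self _
  have hpow : ∀ t : ℕ, ((k : ZMod (p ^ 2))) ^ t = 1 + (t : ZMod (p ^ 2)) * p * m := by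
    intro t
    induction t with
    | zero => simp
    | succ t ih =>
      have : ((k : ZMod (p ^ 2))) ^ (t + 1) =
          1 + ((t + 1 : ℕ) : ZMod (p ^ 2)) * p * m + t * m ^ 2 * ((p : ZMod (p ^ 2)) ^ 2) := by
        rw [pow_succ (k : ZMod (p ^ 2)) t, ih, hkm]
        push_cast
        ring
      rw [this, hp2, mul_zero, add_zero]
  obtain ⟨r, hr⟩ : ∃ r, p - 1 = 2 * r := by
    have := hp.eq_one_or_self_of_dvd 2
    have hodd' : p % 2 = 1 := by
      rcases Nat.mod_two_eq_zero_or_one p with h | h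
      · have h2 : 2 ∣ p := Nat.dvd_of_mod_eq_zero h
        rcases this h2 with h3 | h3
        · omega
        · omega
      · exact h
    exact ⟨(p - 1) / 2, by omega⟩
  have hsumid : ∑ t ∈ Finset.range p, t = p * r := by
    have := Finset.sum_range_id_mul_two p
    rw [hr] at this
    have h2 : (∑ t ∈ Finset.range p, t) * 2 = (p * r) * 2 := by rw [this]; ring
    exact Nat.eq_of_mul_eq_mul_right (by norm_num) h2
  have hsum : ((∑ t ∈ Finset.range p, k ^ t : ℕ) : ZMod (p ^ 2)) = p := by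
    rw [Nat.cast_sum]
    have : ∀ t ∈ Finset.range p, ((k ^ t : ℕ) : ZMod (p ^ 2)) = 1 + (t : ZMod (p ^ 2)) * p * m := by
      intro t _
      rw [Nat.cast_pow]; exact hpow t
    rw [Finset.sum_congr rfl this, Finset.sum_add_distrib, Finset.sum_const, Finset.card_range,
      ← Finset.sum_mul, ← Finset.sum_mul, ← Nat.cast_sum, hsumid]
    push_cast
    have : (p : ZMod (p ^ 2)) * r * p * m = r * m * ((p : ZMod (p ^ 2)) ^ 2) := by ring
    rw [this, hp2, mul_zero, add_zero]
    simp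
  have h0 : ((∑ t ∈ Finset.range p, k ^ t : ℕ) : ZMod (p ^ 2)) = 0 :=
    (ZMod.natCast_eq_zero_iff _ _).mpr hdvd
  rw [hsum] at h0
  have h1 := (ZMod.natCast_eq_zero_iff _ _).mp h0
  have h2 := Nat.le_of_dvd hp.pos h1
  have h3 : p < p ^ 2 := by
    have := hp.one_lt
    nlinarith
  omega



/-- `Ω₁` of an abelian subgroup. -/
def omegaOne (p : ℕ) (A : Subgroup P) (hA : IsMulCommutative A) : Subgroup P where
  carrier := {x | x ∈ A ∧ x ^ p = 1}
  mul_mem' := by
    intro a b ha hb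
    refine ⟨A.mul_mem ha.1 hb.1, ?_⟩
    have : Commute a b := isMulComm_iff.mp hA a ha.1 b hb.1
    rw [this.mul_pow, ha.2, hb.2, one_mul]
  one_mem' := ⟨A.one_mem, one_pow _⟩
  inv_mem' := by
    intro a ha
    exact ⟨A.inv_mem ha.1, by rw [inv_pow, ha.2, inv_one]⟩

theorem mem_omegaOne {p : ℕ} {A : Subgroup P} {hA : IsMulCommutative A} {x : P} :
    x ∈ omegaOne p A hA ↔ x ∈ A ∧ x ^ p = 1 := Iff.rfl

theorem omegaOne_normal {p : ℕ} {A : Subgroup P} {hA : IsMulCommutative A} (hAn : A.Normal) :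
    (omegaOne p A hA).Normal :=
  ⟨fun x hx g => ⟨hAn.conj_mem x hx.1 g, by rw [conj_pow, hx.2]; group⟩⟩

theorem omegaOne_elemAb {p : ℕ} {A : Subgroup P} {hA : IsMulCommutative A} :
    IsElementaryAbelian p (omegaOne p A hA) :=
  ⟨isMulComm_iff.mpr (fun a ha b hb => isMulComm_iff.mp hA a ha.1 b hb.1), fun a ha => ha.2⟩

theorem exists_normal_elemAb_sq {p : ℕ} [Fact p.Prime] [Finite P] (hP : IsPGroup p P)
    {E : Subgroup P} (hE : IsElementaryAbelian p E) (hEcard : p ^ 2 < Nat.card E) :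
    ∃ N : Subgroup P, N.Normal ∧ IsElementaryAbelian p N ∧ p ^ 2 ≤ Nat.card N := by
  classical
  have hp := (Fact.out : p.Prime)
  have hnil : Group.IsNilpotent P := hP.isNilpotent
  obtain ⟨A, hAn, hAc, hmax⟩ := exists_max_normal_abelian (P := P)
  have hCA := centralizer_le_of_max_normal_abelian hAn hAc hmax
  have hAcomm := isMulComm_iff.mp hAc
  have hΩn : (omegaOne p A hAc).Normal := omegaOne_normal hAn
  have hΩe : IsElementaryAbelian p (omegaOne p A hAc) := omegaOne_elemAb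
  by_cases hΩc : p ^ 2 ≤ Nat.card (omegaOne p A hAc)
  · exact ⟨_, hΩn, hΩe, hΩc⟩
  have hΩp : Nat.card (omegaOne p A hAc) ≤ p := by
    obtain ⟨j, hj⟩ := card_pow_of_isPGroup hP (omegaOne p A hAc)
    rw [hj] at hΩc ⊢
    have hj2 : j < 2 := by
      by_contra h
      exact hΩc (Nat.pow_le_pow_right hp.pos (by omega))
    calc p ^ j ≤ p ^ 1 := Nat.pow_le_pow_right hp.pos (by omega)
      _ = p := pow_one p
  have hW : ∀ W : Subgroup P, W ≤ A → IsElementaryAbelian p W → Nat.card W ≤ p := by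
    intro W hWA hWe
    exact (Subgroup.card_le_of_le (fun x hx => ⟨hWA hx, hWe.2 x hx⟩ :
      W ≤ omegaOne p A hAc)).trans hΩp
  obtain ⟨a, haA, hgen⟩ := exists_gen_of_elemAb_card_le hP hAc hW
  have hconj : ∀ g : P, ∃ k : ℕ, ∀ x ∈ A, g * x * g⁻¹ = x ^ k := by
    intro g
    have h1 : g * a * g⁻¹ ∈ Subgroup.zpowers a := hgen (hAn.conj_mem a haA g)
    obtain ⟨k, hk⟩ := (Submonoid.mem_powers_iff _ _).mp ((mem_powers_iff_mem_zpowers).mpr h1)
    refine ⟨k, fun x hx => ?_⟩
    obtain ⟨i, hi⟩ := (Submonoid.mem_powers_iff _ _).mp ((mem_powers_iff_mem_zpowers).mpr (hgen hx))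
    rw [← hi, ← conj_pow, ← hk, ← pow_mul, ← pow_mul, mul_comm]
  have hpp : p < p ^ 2 := by
    have := hp.one_lt
    nlinarith
  have hE_A : ¬ E ≤ A := by
    intro h
    have := hW E h hE
    omega
  have ha1 : a ≠ 1 := by
    intro h
    apply hE_A
    intro x _
    apply hCA
    intro y hy
    have : y ∈ Subgroup.zpowers a := hgen hy
    rw [h, Subgroup.zpowers_one_eq_bot, Subgroup.mem_bot] at this
    rw [this, one_mul, mul_one]
  have hpa : p ∣ orderOf a := hP.dvd_orderOf ha1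
  have hkmod : ∀ e ∈ E, ∀ k : ℕ, e * a * e⁻¹ = a ^ k → k ≡ 1 [MOD p] := by
    intro e he k hk
    have h1 := conj_pow_mul hk p
    rw [hE.2 e he, one_mul, mul_one] at h1
    have h2 : a ^ (k ^ p) = a ^ 1 := by rw [pow_one]; exact h1.symm
    have h3 := pow_eq_pow_iff_modEq.mp h2
    exact modEq_one_of_pow hp (h3.of_dvd hpa)
  obtain ⟨e, heE, heA, k, hk, hS⟩ : ∃ e ∈ E, e ∉ A ∧ ∃ k : ℕ,
      (∀ x ∈ A, e * x * e⁻¹ = x ^ k) ∧ ¬ p ^ 2 ∣ ∑ t ∈ Finset.range p, k ^ t := by
    obtain ⟨e₁, he₁E, he₁A⟩ := SetLike.not_le_iff_exists.mp hE_A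
    obtain ⟨k₁, hk₁⟩ := hconj e₁
    by_cases hp2 : p = 2
    · have hex : ∃ e₂ ∈ E, e₂ ∉ A ∧ e₁ * e₂ ∉ A := by
        by_contra hcon
        push Not at hcon
        let f : ↥E → ↥(E ⊓ A) × Bool := fun e =>
          if h : (e : P) ∈ A then (⟨e, e.2, h⟩, true)
          else (⟨e₁ * e, E.mul_mem he₁E e.2, hcon e e.2 h⟩, false)
        have hf : Function.Injective f := by
          intro x y hxy
          simp only [f] at hxy
          split_ifs at hxy with hx hy hy
          · have := congrArg (fun t => (t.1 : P)) hxy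
            exact Subtype.ext this
          · simp at hxy
          · simp at hxy
          · have := congrArg (fun t => (t.1 : P)) hxy
            simp only [mul_right_inj] at this
            exact Subtype.ext this
        have h1 := Nat.card_le_card_of_injective f hf
        rw [Nat.card_prod, Nat.card_eq_fintype_card (α := Bool), Fintype.card_bool] at h1
        have h2 := hW (E ⊓ A) inf_le_right (elemAb_of_le inf_le_left hE)
        rw [hp2] at hEcard h2
        omega
      obtain ⟨e₂, he₂E, he₂A, he₁₂A⟩ := hex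
      obtain ⟨k₂, hk₂⟩ := hconj e₂
      have hm1 := hkmod e₁ he₁E k₁ (hk₁ a haA)
      have hm2 := hkmod e₂ he₂E k₂ (hk₂ a haA)
      unfold Nat.ModEq at hm1 hm2
      rw [hp2] at hm1 hm2
      have hgood : ∀ k : ℕ, k % 4 = 1 → ¬ p ^ 2 ∣ ∑ t ∈ Finset.range p, k ^ t := by
        intro k hk4
        rw [hp2]
        simp only [Finset.sum_range_succ, Finset.sum_range_zero, pow_zero, pow_one, zero_add]
        omega
      by_cases h1 : k₁ % 4 = 1
      · exact ⟨e₁, he₁E, he₁A, k₁, hk₁, hgood k₁ h1⟩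
      by_cases h2 : k₂ % 4 = 1
      · exact ⟨e₂, he₂E, he₂A, k₂, hk₂, hgood k₂ h2⟩
      refine ⟨e₁ * e₂, E.mul_mem he₁E he₂E, he₁₂A, k₂ * k₁, ?_, hgood _ ?_⟩
      · intro x hx
        calc e₁ * e₂ * x * (e₁ * e₂)⁻¹ = e₁ * (e₂ * x * e₂⁻¹) * e₁⁻¹ := by group
          _ = e₁ * x ^ k₂ * e₁⁻¹ := by rw [hk₂ x hx]
          _ = (x ^ k₂) ^ k₁ := hk₁ _ (A.pow_mem hx _)
          _ = x ^ (k₂ * k₁) := by rw [pow_mul]
      · have h3 : k₁ % 4 = 3 := by omega
        have h4 : k₂ % 4 = 3 := by omega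
        rw [Nat.mul_mod, h3, h4]
    · exact ⟨e₁, he₁E, he₁A, k₁, hk₁,
        not_sq_dvd_geom_sum hp hp2 (hkmod e₁ he₁E k₁ (hk₁ a haA))⟩
  have hkm := hkmod e heE k (hk a haA)
  have hep : e ^ p = 1 := hE.2 e heE
  have hNe : IsElementaryAbelian p (omegaOne p A hAc ⊔ Subgroup.zpowers e) := by
    apply elemAb_sup hΩe (elemAb_zpowers hep)
    intro x hx y hy
    have h1 : e * x * e⁻¹ = x := by
      rw [hk x hx.1]
      have h2 : orderOf x ∣ p := orderOf_dvd_of_pow_eq_one hx.2
      have h3 : x ^ k = x ^ 1 := pow_eq_pow_iff_modEq.mpr (hkm.of_dvd h2)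
      rw [h3, pow_one]
    have h2 : Subgroup.zpowers e ≤ Subgroup.centralizer ({x} : Set P) := by
      rw [Subgroup.zpowers_le]
      intro z hz
      rw [Set.mem_singleton_iff] at hz
      subst hz
      have : e * z = (e * z * e⁻¹) * e := by group
      rw [this, h1]
    exact h2 hy x rfl
  have hNcard : p ^ 2 ≤ Nat.card ↥(omegaOne p A hAc ⊔ Subgroup.zpowers e) := by
    have hΩne : omegaOne p A hAc ≠ ⊥ := by
      intro h
      obtain ⟨q, hq⟩ := hpa
      have hq0 : q ≠ 0 := by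
        rintro rfl
        rw [mul_zero] at hq
        exact (orderOf_pos a).ne' hq
      have h1 : a ^ q ∈ omegaOne p A hAc := by
        refine ⟨A.pow_mem haA _, ?_⟩
        rw [← pow_mul, mul_comm, ← hq, pow_orderOf_eq_one]
      rw [h, Subgroup.mem_bot] at h1
      have h2 : q < orderOf a := by
        rw [hq]
        have := hp.one_lt
        have : 0 < q := Nat.pos_of_ne_zero hq0
        nlinarith
      exact pow_ne_one_of_lt_orderOf hq0 h2 h1
    obtain ⟨j, hj⟩ := card_pow_of_isPGroup hP (omegaOne p A hAc)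
    obtain ⟨i, hi⟩ := card_pow_of_isPGroup hP (omegaOne p A hAc ⊔ Subgroup.zpowers e)
    have hj0 : j ≠ 0 := by
      rintro rfl
      rw [pow_zero] at hj
      exact hΩne (Subgroup.card_eq_one.mp hj)
    have hlt : omegaOne p A hAc < omegaOne p A hAc ⊔ Subgroup.zpowers e := by
      refine lt_of_le_of_ne le_sup_left (fun h => heA ?_)
      have : e ∈ omegaOne p A hAc := h ▸ Subgroup.mem_sup_right (Subgroup.mem_zpowers e)
      exact this.1
    have h1 := card_lt_card_of_lt hlt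
    rw [hj, hi] at h1
    have h2 := (Nat.pow_lt_pow_iff_right hp.one_lt).mp h1
    rw [hi]
    exact Nat.pow_le_pow_right hp.pos (by omega)
  have hsw : ∀ u v : P, ∀ x ∈ A, (u * v) * x * (u * v)⁻¹ = (v * u) * x * (v * u)⁻¹ := by
    intro u v x hx
    obtain ⟨ku, hku⟩ := hconj u
    obtain ⟨kv, hkv⟩ := hconj v
    calc (u * v) * x * (u * v)⁻¹ = u * (v * x * v⁻¹) * u⁻¹ := by group
      _ = u * x ^ kv * u⁻¹ := by rw [hkv x hx]
      _ = (x ^ kv) ^ ku := hku _ (A.pow_mem hx _)
      _ = (x ^ ku) ^ kv := by rw [← pow_mul, ← pow_mul, mul_comm]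
      _ = v * x ^ ku * v⁻¹ := (hkv _ (A.pow_mem hx _)).symm
      _ = v * (u * x * u⁻¹) * v⁻¹ := by rw [hku x hx]
      _ = (v * u) * x * (v * u)⁻¹ := by group
  have hNn : (omegaOne p A hAc ⊔ Subgroup.zpowers e).Normal := by
    apply normal_of_map_conj_le
    intro g
    rw [Subgroup.map_sup]
    refine sup_le ?_ ?_
    · rw [map_conj_eq_of_normal]
      exact le_sup_left
    · rw [MonoidHom.map_zpowers, Subgroup.zpowers_le]
      have hcA : g * e * g⁻¹ * e⁻¹ ∈ A := by
        apply hCA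
        intro x hx
        have hx' : (e * g)⁻¹ * x * (e * g) ∈ A := by
          have := hAn.conj_mem x hx (e * g)⁻¹
          rwa [inv_inv] at this
        have h1 := hsw g e _ hx'
        have h2 : (g * e * g⁻¹ * e⁻¹) * x * (g * e * g⁻¹ * e⁻¹)⁻¹ =
            g * e * ((e * g)⁻¹ * x * (e * g)) * (g * e)⁻¹ := by group
        have h3 : e * g * ((e * g)⁻¹ * x * (e * g)) * (e * g)⁻¹ = x := by group
        rw [h1, h3] at h2
        have h4 : x * (g * e * g⁻¹ * e⁻¹) =
            ((g * e * g⁻¹ * e⁻¹) * x * (g * e * g⁻¹ * e⁻¹)⁻¹)⁻¹ * x * (x * (g * e * g⁻¹ * e⁻¹)) := by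
          rw [h2]; group
        calc x * (g * e * g⁻¹ * e⁻¹) = (g * e * g⁻¹ * e⁻¹) * x * (g * e * g⁻¹ * e⁻¹)⁻¹ * (g * e * g⁻¹ * e⁻¹) := by
              rw [h2]
          _ = (g * e * g⁻¹ * e⁻¹) * x := by group
      have hcS : (g * e * g⁻¹ * e⁻¹) ^ (∑ t ∈ Finset.range p, k ^ t) = 1 := by
        have h1 := mul_pow_of_conj (hk _ hcA) p
        rw [hep, mul_one] at h1
        rw [← h1]
        have : g * e * g⁻¹ * e⁻¹ * e = g * e * g⁻¹ := by group
        rw [this, conj_pow, hep]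
        group
      have hcp : (g * e * g⁻¹ * e⁻¹) ^ p = 1 := by
        obtain ⟨j, hj⟩ := IsPGroup.iff_orderOf.mp hP (g * e * g⁻¹ * e⁻¹)
        have h1 : orderOf (g * e * g⁻¹ * e⁻¹) ∣ ∑ t ∈ Finset.range p, k ^ t :=
          orderOf_dvd_of_pow_eq_one hcS
        rw [hj] at h1
        have hj1 : j ≤ 1 := by
          by_contra hcon
          exact hS ((pow_dvd_pow p (by omega : 2 ≤ j)).trans h1)
        rw [← orderOf_dvd_iff_pow_eq_one, hj]
        calc p ^ j ∣ p ^ 1 := pow_dvd_pow p hj1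
          _ = p := pow_one p
      have : (MulAut.conj g).toMonoidHom e = (g * e * g⁻¹ * e⁻¹) * e := by
        simp only [MulEquiv.toMonoidHom_eq_coe, MonoidHom.coe_coe, MulAut.conj_apply]
        group
      rw [this]
      exact Subgroup.mul_mem _ (Subgroup.mem_sup_left ⟨hcA, hcp⟩)
        (Subgroup.mem_sup_right (Subgroup.mem_zpowers e))
  exact ⟨_, hNn, hNe, hNcard⟩


end pgrp

end Cfsg.Agent.Lib.Helper31
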