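import Mathlib
import Cfsg.Agent.Lib.Helper11.S983Tools

/-!
# S0983, piece N4620: no simple group of order 4620
-/

set_option autoImplicit false

namespace Cfsg.Agent.S983

open Subgroup Cfsg.Agent.Lib.Helper23 Cfsg.Agent.S4274T

set_option maxRecDepth 100000 in
theorem n4620_cands7 : cands 4620 7 = [(330, 1, 2)] := by decide +kernel

set_option maxRecDepth 100000 in
theorem n4620_cands11 : cands 4620 11 = [(210, 1, 2)] := by decide +kernel

set_option maxRecDepth 100000 in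
theorem n4620_cands3 :
    cands 4620 3 = [(22, 35, 2), (55, 14, 2), (70, 11, 2), (154, 5, 2), (385, 2, 2)] := by
  decide +kernel

theorem ns4620 {G : Type*} [Group G] [Finite G] [IsSimpleGroup G] (h : Nat.card G = 4620) :
    False := by
  have hG : ¬ IsMulCommutative G :=
    not_comm_of_simple_of_not_prime (by rw [h]; norm_num)
  have : Fact (Nat.Prime 3) := ⟨by norm_num⟩
  have : Fact (Nat.Prime 7) := ⟨by norm_num⟩
  have : Fact (Nat.Prime 11) := ⟨by norm_num⟩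
  obtain ⟨d7, c7, r7, hn7, hc7, hC7, -, hmem7⟩ :=
    mem_cands hG h (p := 7) (by norm_num) (by norm_num)
  rw [n4620_cands7] at hmem7
  simp only [List.mem_singleton, Prod.mk.injEq] at hmem7
  obtain ⟨rfl, rfl, rfl⟩ := hmem7
  obtain ⟨d11, c11, r11, hn11, hc11, hC11, -, hmem11⟩ :=
    mem_cands hG h (p := 11) (by norm_num) (by norm_num)
  rw [n4620_cands11] at hmem11
  simp only [List.mem_singleton, Prod.mk.injEq] at hmem11
  obtain ⟨rfl, rfl, rfl⟩ := hmem11
  obtain ⟨d3, c3, r3, hn3, hc3, hC3, -, hmem3⟩ :=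
    mem_cands hG h (p := 3) (by norm_num) (by norm_num)
  rw [n4620_cands3] at hmem3
  have hdc : d3 * c3 = 770 := by
    simp only [List.mem_cons, Prod.mk.injEq, List.not_mem_nil, or_false] at hmem3
    rcases hmem3 with ⟨rfl, rfl, -⟩ | ⟨rfl, rfl, -⟩ | ⟨rfl, rfl, -⟩ | ⟨rfl, rfl, -⟩ |
      ⟨rfl, rfl, -⟩ <;> norm_num
  obtain ⟨P3⟩ : Nonempty (Sylow 3 G) := inferInstance
  obtain ⟨P7⟩ : Nonempty (Sylow 7 G) := inferInstance
  obtain ⟨P11⟩ : Nonempty (Sylow 11 G) := inferInstance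
  have hA3 : Nat.card {g : G // 3 ∣ orderOf g} = 1540 := by
    rw [card_dvd_orderOf 3 hc3 P3 c3 (hC3 P3), hn3]
    have e1 : d3 * ((3 - 1) * c3) = 2 * (d3 * c3) := by norm_num; ring
    rw [e1, hdc]
  have hA7 : Nat.card {g : G // 7 ∣ orderOf g} = 1980 := by
    rw [card_dvd_orderOf 7 hc7 P7 1 (hC7 P7), hn7]
  have hA11 : Nat.card {g : G // 11 ∣ orderOf g} = 2100 := by
    rw [card_dvd_orderOf 11 hc11 P11 1 (hC11 P11), hn11]
  have hd7 : ∀ g : G, 7 ∣ orderOf g → orderOf g ∣ 7 := fun g hg => by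
    have h1 := orderOf_dvd_card_centralizer 7 hc7 P7 g hg
    rwa [hC7 P7, mul_one] at h1
  have hd11 : ∀ g : G, 11 ∣ orderOf g → orderOf g ∣ 11 := fun g hg => by
    have h1 := orderOf_dvd_card_centralizer 11 hc11 P11 g hg
    rwa [hC11 P11, mul_one] at h1
  have h3_7 : ∀ g : G, ¬ (3 ∣ orderOf g ∧ 7 ∣ orderOf g) := fun g ⟨h1, h2⟩ => by
    have h3 := h1.trans (hd7 g h2)
    norm_num at h3
  have h3_11 : ∀ g : G, ¬ (3 ∣ orderOf g ∧ 11 ∣ orderOf g) := fun g ⟨h1, h2⟩ => by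
    have h3 := h1.trans (hd11 g h2)
    norm_num at h3
  have h7_11 : ∀ g : G, ¬ (7 ∣ orderOf g ∧ 11 ∣ orderOf g) := fun g ⟨h1, h2⟩ => by
    have h3 := h1.trans (hd11 g h2)
    norm_num at h3
  have hlt := three_card_dvd_orderOf_lt (G := G) 3 7 11 (by norm_num) (by norm_num) (by norm_num)
    h3_7 h3_11 h7_11
  rw [hA3, hA7, hA11, h] at hlt
  omega

end Cfsg.Agent.S983
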