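import Mathlib

set_option autoImplicit false

universe u

namespace Cfsg.Agent.Lib.Helper31.SSol

open Polynomial

/-- an endomorphism `f` of a nonzero `ZMod p`-module with `f ^ (p - 1) = 1` has an eigenvector -/
theorem eigen_module {p : ℕ} [Fact p.Prime] {M : Type*} [AddCommGroup M] [Module (ZMod p) M]
    [Nontrivial M] (f : Module.End (ZMod p) M) (hf : f ^ (p - 1) = 1) :
    ∃ (a : ZMod p) (v : M), v ≠ 0 ∧ f v = a • v := by
  have hp : p.Prime := Fact.out
  by_contra hcon
  push Not at hcon
  have hinj : ∀ s : Finset (ZMod p),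
      Function.Injective (aeval f (∏ a ∈ s, (X - C a) : (ZMod p)[X])) := by
    intro s
    induction s using Finset.induction_on with
    | empty =>
      rw [Finset.prod_empty, map_one]
      exact Function.injective_id
    | insert a s ha ih =>
      rw [Finset.prod_insert ha, map_mul]
      have h1 : Function.Injective (aeval f (X - C a : (ZMod p)[X])) := by
        rw [injective_iff_map_eq_zero]
        intro v hv
        by_contra hv0
        apply hcon a v hv0
        have h2 : f v - a • v = 0 := by simpa using hv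
        exact sub_eq_zero.mp h2
      exact h1.comp ih
  have hprod : (∏ a : ZMod p, (X - C a) : (ZMod p)[X]) = X ^ p - X := by
    have hmonic : (X ^ p - X : (ZMod p)[X]).Monic := by
      apply monic_X_pow_sub
      rw [degree_X]
      exact_mod_cast hp.one_lt
    have hroots : (X ^ p - X : (ZMod p)[X]).roots = Finset.univ.val := by
      have h1 := FiniteField.roots_X_pow_card_sub_X (ZMod p)
      rwa [ZMod.card] at h1
    have hcard : Multiset.card (X ^ p - X : (ZMod p)[X]).roots
        = (X ^ p - X : (ZMod p)[X]).natDegree := by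
      rw [hroots, FiniteField.X_pow_card_sub_X_natDegree_eq _ hp.one_lt]
      simp [ZMod.card]
    have h2 := prod_multiset_X_sub_C_of_monic_of_roots_card_eq hmonic hcard
    rw [hroots] at h2
    exact h2
  have h0 : aeval f (∏ a : ZMod p, (X - C a) : (ZMod p)[X]) = 0 := by
    rw [hprod]
    simp only [map_sub, map_pow, aeval_X]
    have h1 : f ^ p = f ^ (p - 1) * f := by rw [← pow_succ, Nat.sub_add_cancel hp.one_le]
    rw [h1, hf, one_mul, sub_self]
  have h3 := hinj Finset.univ
  rw [h0] at h3
  obtain ⟨x, hx⟩ := exists_ne (0 : M)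
  exact hx (h3 (by simp))

/-- an endomorphism `α` of a nontrivial elementary abelian `p`-group with `α ^ (p - 1) = 1`
has an eigenvector -/
theorem eigen_one {W : Type*} [CommGroup W] {p : ℕ} [Fact p.Prime]
    (hexp : ∀ w : W, w ^ p = 1) (hW : Nontrivial W) (α : W →* W)
    (hpow : ∀ w, (α^[p - 1]) w = w) :
    ∃ (c : ℕ) (v : W), v ≠ 1 ∧ α v = v ^ c := by
  let _ : Module (ZMod p) (Additive W) :=
    AddCommGroup.zmodModule (n := p) (fun x => congrArg Additive.ofMul (hexp x.toMul))
  have : Nontrivial (Additive W) := hW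
  have hiter : ∀ (k : ℕ) (w : Additive W),
      (((MonoidHom.toAdditive α).toZModLinearMap p : Module.End (ZMod p) (Additive W)))^[k] w
        = Additive.ofMul (α^[k] w.toMul) := by
    intro k
    induction k with
    | zero => intro w; rfl
    | succ k ih =>
      intro w
      rw [Function.iterate_succ_apply, Function.iterate_succ_apply, ih]
      rfl
  have hf : ((MonoidHom.toAdditive α).toZModLinearMap p : Module.End (ZMod p) (Additive W))
      ^ (p - 1) = 1 := by
    apply LinearMap.ext
    intro w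
    rw [Module.End.pow_apply, hiter, hpow]
    rfl
  obtain ⟨a, v, hv, hfv⟩ := eigen_module _ hf
  refine ⟨a.val, v.toMul, fun h => hv (congrArg Additive.ofMul h), ?_⟩
  have h1 : a • v = a.val • v := by
    rw [← Nat.cast_smul_eq_nsmul (ZMod p), ZMod.natCast_zmod_val]
  rw [h1] at hfv
  exact congrArg Additive.toMul hfv

theorem exists_common_eigen_aux (p : ℕ) [Fact p.Prime] (n : ℕ) :
    ∀ (W : Type u) [CommGroup W] [Finite W], Nat.card W = n → (∀ w : W, w ^ p = 1) →
      Nontrivial W → ∀ (B : Set (W →* W)),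
      (∀ α ∈ B, ∀ β ∈ B, ∀ w, α (β w) = β (α w)) → (∀ α ∈ B, ∀ w, (α^[p - 1]) w = w) →
      ∃ v : W, v ≠ 1 ∧ ∀ α ∈ B, α v ∈ Subgroup.zpowers v := by
  induction n using Nat.strong_induction_on with
  | _ n IH =>
  intro W _ _ hn hexp hW B hcomm hpow
  by_cases hall : ∀ α ∈ B, ∀ w, α w ∈ Subgroup.zpowers w
  · obtain ⟨v, hv⟩ := exists_ne (1 : W)
    exact ⟨v, hv, fun α hα => hall α hα v⟩
  · push Not at hall
    obtain ⟨α, hα, w₀, hw₀⟩ := hall
    obtain ⟨c, v₁, hv₁, hαv₁⟩ := eigen_one hexp hW α (hpow α hα)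
    let E : Subgroup W :=
      { carrier := {w | α w = w ^ c}
        mul_mem' := by
          intro a b ha hb
          show α (a * b) = (a * b) ^ c
          rw [map_mul, mul_pow, show α a = a ^ c from ha, show α b = b ^ c from hb]
        one_mem' := by
          show α 1 = 1 ^ c
          rw [map_one, one_pow]
        inv_mem' := by
          intro a ha
          show α a⁻¹ = a⁻¹ ^ c
          rw [map_inv, inv_pow, show α a = a ^ c from ha] }
    have hEmem : ∀ w, w ∈ E ↔ α w = w ^ c := fun w => Iff.rfl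
    have hEstab : ∀ β ∈ B, ∀ w ∈ E, β w ∈ E := by
      intro β hβ w hw
      rw [hEmem] at hw ⊢
      rw [hcomm α hα β hβ w, hw, map_pow]
    have hEne : E ≠ ⊤ := by
      intro h
      have h1 : w₀ ∈ E := h ▸ Subgroup.mem_top _
      rw [hEmem] at h1
      apply hw₀
      rw [h1]
      exact Subgroup.pow_mem _ (Subgroup.mem_zpowers _) _
    have hcard : Nat.card E < Nat.card W := by
      have h1 : Nat.card E ≤ Nat.card W := Subgroup.card_le_card_group E
      have h2 : Nat.card E ≠ Nat.card W := fun h => hEne (Subgroup.eq_top_of_card_eq E h)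
      omega
    have hres : ∀ β ∈ B, ∀ w : E, β (w : W) ∈ E := fun β hβ w => hEstab β hβ w w.2
    obtain ⟨v, hv, hvB⟩ := IH (Nat.card E) (hn ▸ hcard) E rfl
      (fun w => Subtype.ext (by simpa using hexp (w : W)))
      ⟨⟨⟨v₁, hαv₁⟩, 1, fun h => hv₁ (congrArg Subtype.val h)⟩⟩
      {β' : E →* E | ∃ β ∈ B, ∀ w : E, ((β' w : E) : W) = β (w : W)}
      (by
        intro β' hβ' γ' hγ' w
        obtain ⟨β, hβ, h1⟩ := hβ'
        obtain ⟨γ, hγ, h2⟩ := hγ'
        apply Subtype.ext
        rw [h1, h2, h2, h1]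
        exact hcomm β hβ γ hγ w)
      (by
        intro β' hβ' w
        obtain ⟨β, hβ, h1⟩ := hβ'
        have hit : ∀ (k : ℕ) (w : E), (((β'^[k]) w : E) : W) = (β^[k]) (w : W) := by
          intro k
          induction k with
          | zero => intro w; rfl
          | succ k ih =>
            intro w
            rw [Function.iterate_succ_apply, Function.iterate_succ_apply, ih, h1]
        apply Subtype.ext
        rw [hit, hpow β hβ])
    refine ⟨v, fun h => hv (Subtype.ext h), fun β hβ => ?_⟩
    have h1 := hvB ((β.comp E.subtype).codRestrict E (hres β hβ)) ⟨β, hβ, fun w => rfl⟩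
    obtain ⟨k, hk⟩ := Subgroup.mem_zpowers_iff.mp h1
    refine Subgroup.mem_zpowers_iff.mpr ⟨k, ?_⟩
    have h2 := congrArg (Subtype.val : E → W) hk
    rw [Subgroup.coe_zpow] at h2
    exact h2

theorem exists_common_eigen {W : Type*} [CommGroup W] [Finite W] {p : ℕ} [Fact p.Prime]
    (hexp : ∀ w : W, w ^ p = 1) (hW : Nontrivial W) (B : Set (W →* W))
    (hcomm : ∀ α ∈ B, ∀ β ∈ B, ∀ w, α (β w) = β (α w))
    (hpow : ∀ α ∈ B, ∀ w, (α^[p - 1]) w = w) :
    ∃ v : W, v ≠ 1 ∧ ∀ α ∈ B, α v ∈ Subgroup.zpowers v :=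
  exists_common_eigen_aux p (Nat.card W) W rfl hexp hW B hcomm hpow

end Cfsg.Agent.Lib.Helper31.SSol
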