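import Mathlib
import Cfsg.Agent.Lib.Helper31.SSolJ10a

set_option autoImplicit false
set_option linter.style.haveILetI false

universe u

namespace Cfsg.Agent.Lib.Helper31.SSol

section lifts

variable {S : Type u} [Group S]

/-- `a'` is induced by `a` on the quotient by `C` -/
def AutLifts (C : Subgroup S) [C.Normal] (a : MulAut S) (a' : MulAut (S ⧸ C)) : Prop :=
  ∀ s : S, a' (QuotientGroup.mk s) = QuotientGroup.mk (a s)

variable {C : Subgroup S} [C.Normal]

theorem autLifts_one : AutLifts C 1 1 := fun _ => rfl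

theorem autLifts_mul {a b : MulAut S} {a' b' : MulAut (S ⧸ C)} (h1 : AutLifts C a a')
    (h2 : AutLifts C b b') : AutLifts C (a * b) (a' * b') := fun s => by
  rw [MulAut.mul_apply, MulAut.mul_apply, h2, h1]

theorem autLifts_inv {a : MulAut S} {a' : MulAut (S ⧸ C)} (h1 : AutLifts C a a') :
    AutLifts C a⁻¹ a'⁻¹ := fun s => by
  apply a'.injective
  rw [MulAut.apply_inv_self, h1, MulAut.apply_inv_self]

theorem autLifts_pow {a : MulAut S} {a' : MulAut (S ⧸ C)} (h1 : AutLifts C a a') (k : ℕ) :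
    AutLifts C (a ^ k) (a' ^ k) := by
  induction k with
  | zero => exact autLifts_one
  | succ k ih =>
    rw [pow_succ, pow_succ]
    exact autLifts_mul ih h1

theorem autLifts_eq_one {a' : MulAut (S ⧸ C)} (h1 : AutLifts C 1 a') : a' = 1 := by
  apply MulEquiv.ext
  intro x
  induction x using QuotientGroup.induction_on with
  | H s => exact h1 s

/-- the group of automorphisms of the quotient induced by elements of `X` -/
def quotImg (C : Subgroup S) [C.Normal] (X : Subgroup (MulAut S)) :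
    Subgroup (MulAut (S ⧸ C)) where
  carrier := {a' | ∃ a ∈ X, AutLifts C a a'}
  mul_mem' := by
    rintro a b ⟨α, hα, h1⟩ ⟨β, hβ, h2⟩
    exact ⟨α * β, X.mul_mem hα hβ, autLifts_mul h1 h2⟩
  one_mem' := ⟨1, X.one_mem, autLifts_one⟩
  inv_mem' := by
    rintro a ⟨α, hα, h1⟩
    exact ⟨α⁻¹, X.inv_mem hα, autLifts_inv h1⟩

theorem mem_quotImg (X : Subgroup (MulAut S)) (a' : MulAut (S ⧸ C)) :
    a' ∈ quotImg C X ↔ ∃ a ∈ X, AutLifts C a a' := Iff.rfl

end lifts

/-- a central element of order `p` spanning an `A`-invariant subgroup -/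
theorem exists_central_eigen {S : Type u} [Group S] [Finite S] [Nontrivial S] {p : ℕ}
    [Fact p.Prime] (hS : IsPGroup p S) (A K : Subgroup (MulAut S))
    (hKn : ∀ α ∈ A, ∀ κ ∈ K, α * κ * α⁻¹ ∈ K) (hKp : IsPGroup p K)
    (hcomm : ∀ α ∈ A, ∀ β ∈ A, α * β * α⁻¹ * β⁻¹ ∈ K) (hpow : ∀ α ∈ A, α ^ (p - 1) ∈ K) :
    ∃ v : S, v ≠ 1 ∧ v ∈ Subgroup.center S ∧ ∀ α ∈ A, α v ∈ Subgroup.zpowers v := by
  have hp : p.Prime := Fact.out
  let V : Subgroup S :=
    { carrier := {z | z ∈ Subgroup.center S ∧ z ^ p = 1}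
      mul_mem' := by
        rintro a b ⟨ha, ha'⟩ ⟨hb, hb'⟩
        refine ⟨Subgroup.mul_mem _ ha hb, ?_⟩
        have hc : Commute a b := Subgroup.mem_center_iff.mp hb a
        rw [hc.mul_pow, ha', hb', one_mul]
      one_mem' := ⟨Subgroup.one_mem _, one_pow _⟩
      inv_mem' := by
        rintro a ⟨ha, ha'⟩
        exact ⟨Subgroup.inv_mem _ ha, by rw [inv_pow, ha', inv_one]⟩ }
  have hVmem : ∀ z, z ∈ V ↔ z ∈ Subgroup.center S ∧ z ^ p = 1 := fun z => Iff.rfl
  have hautV : ∀ (α : MulAut S) (z : S), z ∈ V → α z ∈ V := by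
    intro α z hz
    rw [hVmem] at hz ⊢
    refine ⟨?_, by rw [← map_pow, hz.2, map_one]⟩
    rw [Subgroup.mem_center_iff]
    intro g
    have h1 := Subgroup.mem_center_iff.mp hz.1 (α⁻¹ g)
    have h2 := congrArg α h1
    rw [map_mul, map_mul, MulAut.apply_inv_self] at h2
    exact h2
  have hVne : V ≠ ⊥ := by
    have hnt : Nontrivial (Subgroup.center S) := hS.center_nontrivial
    obtain ⟨z, hz1⟩ := exists_ne (1 : Subgroup.center S)
    have hz1' : (z : S) ≠ 1 := fun h => hz1 (Subtype.ext h)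
    obtain ⟨k, hk⟩ := (IsPGroup.iff_orderOf.mp hS) (z : S)
    have hk0 : k ≠ 0 := by
      intro h0
      rw [h0, pow_zero, orderOf_eq_one_iff] at hk
      exact hz1' hk
    intro hbot
    have hmem : (z : S) ^ p ^ (k - 1) ∈ V := by
      rw [hVmem]
      refine ⟨Subgroup.pow_mem _ z.2 _, ?_⟩
      rw [← pow_mul, ← pow_succ, Nat.sub_add_cancel (Nat.pos_of_ne_zero hk0), ← hk]
      exact pow_orderOf_eq_one _
    rw [hbot, Subgroup.mem_bot] at hmem
    have h1 : orderOf (z : S) ∣ p ^ (k - 1) := orderOf_dvd_of_pow_eq_one hmem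
    rw [hk, Nat.pow_dvd_pow_iff_le_right hp.one_lt] at h1
    omega
  have hpV : p ∣ Nat.card V := by
    rcases (hS.to_subgroup V).card_eq_or_dvd with h | h
    · exact absurd (Subgroup.eq_bot_of_card_eq V h) hVne
    · exact h
  letI : MulAction K V :=
    { smul := fun κ z => ⟨(κ : MulAut S) z, hautV κ z z.2⟩
      one_smul := fun z => Subtype.ext rfl
      mul_smul := fun a b z => Subtype.ext rfl }
  have hsmul : ∀ (κ : K) (z : V), ((κ • z : V) : S) = (κ : MulAut S) (z : S) := fun _ _ => rfl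
  have hfix1 : (1 : V) ∈ MulAction.fixedPoints K V := by
    intro κ
    apply Subtype.ext
    rw [hsmul]
    exact map_one _
  obtain ⟨b, hb, hne⟩ := hKp.exists_fixed_point_of_prime_dvd_card_of_fixed_point V hpV hfix1
  let W : Subgroup S :=
    { carrier := {z | z ∈ V ∧ ∀ κ ∈ K, κ z = z}
      mul_mem' := by
        rintro a b ⟨ha, ha'⟩ ⟨hb, hb'⟩
        exact ⟨V.mul_mem ha hb, fun κ hκ => by rw [map_mul, ha' κ hκ, hb' κ hκ]⟩
      one_mem' := ⟨V.one_mem, fun κ _ => map_one κ⟩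
      inv_mem' := by
        rintro a ⟨ha, ha'⟩
        exact ⟨V.inv_mem ha, fun κ hκ => by rw [map_inv, ha' κ hκ]⟩ }
  have hWmem : ∀ z, z ∈ W ↔ z ∈ V ∧ ∀ κ ∈ K, κ z = z := fun z => Iff.rfl
  have hbW : (b : S) ∈ W := by
    rw [hWmem]
    refine ⟨b.2, fun κ hκ => ?_⟩
    have h1 := hb ⟨κ, hκ⟩
    have h2 := congrArg (Subtype.val : V → S) h1
    rw [hsmul] at h2
    exact h2
  have hb1 : (b : S) ≠ 1 := fun h => hne (Subtype.ext h.symm)
  have hWstab : ∀ α ∈ A, ∀ z ∈ W, α z ∈ W := by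
    intro α hα z hz
    rw [hWmem] at hz ⊢
    refine ⟨hautV α z hz.1, fun κ hκ => ?_⟩
    have h1 : α⁻¹ * κ * α ∈ K := by
      have h2 := hKn α⁻¹ (A.inv_mem hα) κ hκ
      rwa [inv_inv] at h2
    have h3 := hz.2 _ h1
    rw [MulAut.mul_apply, MulAut.mul_apply] at h3
    have h4 := congrArg α h3
    rw [MulAut.apply_inv_self] at h4
    exact h4
  have hWcomm : ∀ α ∈ A, ∀ β ∈ A, ∀ z ∈ W, α (β z) = β (α z) := by
    intro α hα β hβ z hz
    have h1 := hcomm α hα β hβ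
    have h2 : β (α z) ∈ W := hWstab β hβ _ (hWstab α hα z hz)
    have h3 := ((hWmem _).mp h2).2 _ h1
    rw [MulAut.mul_apply, MulAut.mul_apply, MulAut.mul_apply, MulAut.inv_apply_self,
      MulAut.inv_apply_self] at h3
    exact h3
  have hWpow : ∀ α ∈ A, ∀ z ∈ W, (α ^ (p - 1)) z = z := by
    intro α hα z hz
    exact ((hWmem z).mp hz).2 _ (hpow α hα)
  letI : CommGroup W :=
    { (inferInstance : Group W) with
      mul_comm := fun a b => Subtype.ext (Subgroup.mem_center_iff.mp (b.2.1.1) (a : S)) }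
  have hres : ∀ α ∈ A, ∀ w : W, (α : S →* S) (w : S) ∈ W := fun α hα w => hWstab α hα w w.2
  obtain ⟨v, hv, hvB⟩ := exists_common_eigen (W := W) (p := p)
    (fun w => Subtype.ext (show ((w ^ p : W) : S) = ((1 : W) : S) from w.2.1.2))
    ⟨⟨⟨b, hbW⟩, 1, fun h => hb1 (congrArg Subtype.val h)⟩⟩
    {β' : W →* W | ∃ α ∈ A, ∀ w : W, ((β' w : W) : S) = α (w : S)}
    (by
      intro β' hβ' γ' hγ' w
      obtain ⟨β, hβ, h1⟩ := hβ'
      obtain ⟨γ, hγ, h2⟩ := hγ'
      apply Subtype.ext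
      rw [h1, h2, h2, h1]
      exact hWcomm β hβ γ hγ w w.2)
    (by
      intro β' hβ' w
      obtain ⟨β, hβ, h1⟩ := hβ'
      have hit : ∀ (k : ℕ) (w : W), (((β'^[k]) w : W) : S) = (β ^ k) (w : S) := by
        intro k
        induction k with
        | zero => intro w; rfl
        | succ k ih =>
          intro w
          rw [Function.iterate_succ_apply, ih, h1, pow_succ, MulAut.mul_apply]
      apply Subtype.ext
      rw [hit]
      exact hWpow β hβ w w.2)
  refine ⟨v, fun h => hv (Subtype.ext (show ((v : W) : S) = ((1 : W) : S) from h)), v.2.1.1,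
    fun α hα => ?_⟩
  have h1 := hvB (((α : S →* S).comp W.subtype).codRestrict W (hres α hα)) ⟨α, hα, fun w => rfl⟩
  obtain ⟨k, hk⟩ := Subgroup.mem_zpowers_iff.mp h1
  refine Subgroup.mem_zpowers_iff.mpr ⟨k, ?_⟩
  have h2 := congrArg (Subtype.val : W → S) hk
  rw [Subgroup.coe_zpow] at h2
  exact h2

theorem exists_chain_of_aut_aux (p : ℕ) [Fact p.Prime] (n : ℕ) :
    ∀ (S : Type u) [Group S] [Finite S], Nat.card S = n → IsPGroup p S →
    ∀ (A K : Subgroup (MulAut S)), K ≤ A →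
    (∀ α ∈ A, ∀ κ ∈ K, α * κ * α⁻¹ ∈ K) → IsPGroup p K →
    (∀ α ∈ A, ∀ β ∈ A, α * β * α⁻¹ * β⁻¹ ∈ K) → (∀ α ∈ A, α ^ (p - 1) ∈ K) →
    ∃ (m : ℕ) (c : Fin (m + 1) → Subgroup S), c 0 = ⊥ ∧ c (Fin.last m) = ⊤ ∧
      (∀ i, ∀ α ∈ A, ∀ x ∈ c i, α x ∈ c i) ∧
      ∀ i : Fin m, c i.castSucc ≤ c i.succ ∧
        ∃ x : S, c i.succ = c i.castSucc ⊔ Subgroup.zpowers x := by
  induction n using Nat.strong_induction_on with
  | _ n IH =>
  intro S _ _ hn hS A K hKA hKn hKp hcomm hpow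
  rcases subsingleton_or_nontrivial S with hsub | hnt
  · refine ⟨0, fun _ => ⊥, rfl, ?_, ?_, fun i => i.elim0⟩
    · ext x
      simp [Subsingleton.elim x 1]
    · intro i α _ x hx
      rw [Subgroup.mem_bot] at hx ⊢
      rw [hx, map_one]
  obtain ⟨v, hv1, hvc, hvA⟩ := exists_central_eigen hS A K hKn hKp hcomm hpow
  have hCn : (Subgroup.zpowers v).Normal := by
    constructor
    intro z hz g
    obtain ⟨k, rfl⟩ := Subgroup.mem_zpowers_iff.mp hz
    have h1 : g * v ^ k * g⁻¹ = v ^ k := by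
      have h2 : v ^ k ∈ Subgroup.center S := Subgroup.zpow_mem _ hvc k
      rw [Subgroup.mem_center_iff.mp h2 g, mul_inv_cancel_right]
    rw [h1]
    exact Subgroup.zpow_mem _ (Subgroup.mem_zpowers v) k
  have hCstab : ∀ α ∈ A, ∀ z ∈ Subgroup.zpowers v, α z ∈ Subgroup.zpowers v := by
    intro α hα z hz
    obtain ⟨k, rfl⟩ := Subgroup.mem_zpowers_iff.mp hz
    rw [map_zpow]
    exact Subgroup.zpow_mem _ (hvA α hα) k
  have hCmap : ∀ α ∈ A, (Subgroup.zpowers v).map (α : S →* S) = Subgroup.zpowers v := by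
    intro α hα
    apply Subgroup.eq_of_le_of_card_ge
    · rintro _ ⟨z, hz, rfl⟩
      exact hCstab α hα z hz
    · rw [Subgroup.card_map_of_injective (f := (α : S →* S)) α.injective]
  have hlift : ∀ α ∈ A, ∃ a' : MulAut (S ⧸ Subgroup.zpowers v),
      AutLifts (Subgroup.zpowers v) α a' := by
    intro α hα
    exact ⟨QuotientGroup.congr (Subgroup.zpowers v) (Subgroup.zpowers v) α (hCmap α hα),
      fun s => rfl⟩
  have hCne : Subgroup.zpowers v ≠ ⊥ := by
    intro h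
    apply hv1
    have h1 : v ∈ Subgroup.zpowers v := Subgroup.mem_zpowers v
    rw [h, Subgroup.mem_bot] at h1
    exact h1
  have hcard : Nat.card (S ⧸ Subgroup.zpowers v) < Nat.card S := by
    have h1 := Subgroup.card_eq_card_quotient_mul_card_subgroup (Subgroup.zpowers v)
    have h2 : 1 < Nat.card (Subgroup.zpowers v) :=
      (Subgroup.one_lt_card_iff_ne_bot _).mpr hCne
    have h3 : 0 < Nat.card (S ⧸ Subgroup.zpowers v) := Nat.card_pos
    rw [h1]
    nlinarith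
  obtain ⟨m, c, hc0, hcl, hcA, hcstep⟩ := IH (Nat.card (S ⧸ Subgroup.zpowers v)) (hn ▸ hcard)
    (S ⧸ Subgroup.zpowers v) rfl (hS.to_quotient _)
    (quotImg (Subgroup.zpowers v) A) (quotImg (Subgroup.zpowers v) K)
    (by
      rintro a' ⟨κ, hκ, h1⟩
      exact ⟨κ, hKA hκ, h1⟩)
    (by
      rintro a' ⟨α, hα, h1⟩ k' ⟨κ, hκ, h2⟩
      exact ⟨α * κ * α⁻¹, hKn α hα κ hκ, autLifts_mul (autLifts_mul h1 h2) (autLifts_inv h1)⟩)
    (by
      rintro ⟨k', κ, hκ, h2⟩
      obtain ⟨j, hj⟩ := hKp ⟨κ, hκ⟩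
      refine ⟨j, Subtype.ext ?_⟩
      have h3 := autLifts_pow h2 (p ^ j)
      have h4 : κ ^ p ^ j = 1 := congrArg (Subtype.val : K → MulAut S) hj
      rw [h4] at h3
      exact autLifts_eq_one h3)
    (by
      rintro a' ⟨α, hα, h1⟩ b' ⟨β, hβ, h2⟩
      exact ⟨α * β * α⁻¹ * β⁻¹, hcomm α hα β hβ,
        autLifts_mul (autLifts_mul (autLifts_mul h1 h2) (autLifts_inv h1)) (autLifts_inv h2)⟩)
    (by
      rintro a' ⟨α, hα, h1⟩
      exact ⟨α ^ (p - 1), hpow α hα, autLifts_pow h1 _⟩)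
  refine ⟨m + 1, Fin.cons ⊥ (fun i => (c i).comap (QuotientGroup.mk' (Subgroup.zpowers v))),
    rfl, ?_, ?_, ?_⟩
  · rw [← Fin.succ_last, Fin.cons_succ, hcl, Subgroup.comap_top]
  · intro i
    induction i using Fin.cases with
    | zero =>
      intro α _ x hx
      rw [Fin.cons_zero, Subgroup.mem_bot] at hx ⊢
      rw [hx, map_one]
    | succ i =>
      intro α hα x hx
      rw [Fin.cons_succ, Subgroup.mem_comap] at hx ⊢
      obtain ⟨a', ha'⟩ := hlift α hα
      have h1 := hcA i a' ⟨α, hα, ha'⟩ _ hx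
      rw [QuotientGroup.mk'_apply, ha'] at h1
      exact h1
  · intro i
    induction i using Fin.cases with
    | zero =>
      rw [Fin.castSucc_zero, Fin.cons_zero, Fin.cons_succ, hc0, MonoidHom.comap_bot,
        QuotientGroup.ker_mk']
      exact ⟨bot_le, v, (bot_sup_eq _).symm⟩
    | succ j =>
      obtain ⟨hle, x', hx'⟩ := hcstep j
      obtain ⟨x, rfl⟩ := QuotientGroup.mk_surjective x'
      rw [← Fin.succ_castSucc, Fin.cons_succ, Fin.cons_succ]
      refine ⟨Subgroup.comap_mono hle, x, ?_⟩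
      have h1 : Subgroup.zpowers (QuotientGroup.mk x : S ⧸ Subgroup.zpowers v)
          = (Subgroup.zpowers x).map (QuotientGroup.mk' (Subgroup.zpowers v)) := by
        rw [MonoidHom.map_zpowers]
        rfl
      have h2 : Subgroup.zpowers v ≤
          (c j.castSucc).comap (QuotientGroup.mk' (Subgroup.zpowers v)) := by
        have h3 := MonoidHom.ker_le_comap (QuotientGroup.mk' (Subgroup.zpowers v)) (c j.castSucc)
        rwa [QuotientGroup.ker_mk'] at h3
      rw [hx', ← Subgroup.comap_sup_eq _ _ _ (QuotientGroup.mk'_surjective _), h1,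
        Subgroup.comap_map_eq, QuotientGroup.ker_mk', sup_comm (Subgroup.zpowers x), ← sup_assoc,
        sup_eq_left.mpr h2]

theorem exists_chain_of_aut {S : Type u} [Group S] [Finite S] {p : ℕ} [Fact p.Prime]
    (hS : IsPGroup p S) (A K : Subgroup (MulAut S)) (hKA : K ≤ A)
    (hKn : ∀ α ∈ A, ∀ κ ∈ K, α * κ * α⁻¹ ∈ K) (hKp : IsPGroup p K)
    (hcomm : ∀ α ∈ A, ∀ β ∈ A, α * β * α⁻¹ * β⁻¹ ∈ K) (hpow : ∀ α ∈ A, α ^ (p - 1) ∈ K) :
    ∃ (m : ℕ) (c : Fin (m + 1) → Subgroup S), c 0 = ⊥ ∧ c (Fin.last m) = ⊤ ∧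
      (∀ i, ∀ α ∈ A, ∀ x ∈ c i, α x ∈ c i) ∧
      ∀ i : Fin m, c i.castSucc ≤ c i.succ ∧
        ∃ x : S, c i.succ = c i.castSucc ⊔ Subgroup.zpowers x :=
  exists_chain_of_aut_aux p (Nat.card S) S rfl hS A K hKA hKn hKp hcomm hpow

end Cfsg.Agent.Lib.Helper31.SSol
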